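import Groth.Agent.S0927
import Groth.Agent.S0036
import Groth.Agent.IntSh.K878.CapEx
import Groth.Agent.Krr.H485.PushCoh
import Groth.Agent.PerfC.PullRestrict

/-!
# Projection formula for the push-forward on `K_•`
-/

set_option autoImplicit false
universe v w u
open CategoryTheory CategoryTheory.Limits AlgebraicGeometry

namespace K570.ProjF

open K878.KSup K878.CapEx Groth.Agent Groth.Agent.Sga67.K0Basic

variable {X Y : Scheme.{u}} (π : X ⟶ Y) [HasInjectiveResolutions X.Modules]
  [AlgebraicGeometry.IsLocallyNoetherian X] [AlgebraicGeometry.IsLocallyNoetherian Y]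
  {N : ℕ} {gc : SGA6.Kcoh X →+ SGA6.Kcoh Y}

include π

/-- Projection formula on generators. -/
theorem push_tensor_clc [IsProper π] (hgc : KRR.IsPushCoh π N gc) {E : Y.Modules}
    (hE : FlatMod.IsFinLocFree E) {F : X.Modules} (hF : Coh.IsCoh F) :
    gc (KDet.clc X ((tb ((Scheme.Modules.pullback π).obj E)).obj F)) =
      capHom Y (KRR.cl Y E) (gc (KDet.clc X F)) := by
  have hE' : FlatMod.IsFinLocFree ((Scheme.Modules.pullback π).obj E) :=
    PerfC.PullRestrict.isFinLocFree_pullback π hE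
  have hT : Coh.IsCoh ((tb ((Scheme.Modules.pullback π).obj E)).obj F) :=
    isCoh_tb (isCoh_flf hE') hF
  have h1 := hgc.2 _ hT
  have h2 := hgc.2 _ hF
  rw [show gc (KDet.clc X _) = _ from h1, show gc (KDet.clc X F) = _ from h2, map_sum]
  refine Finset.sum_congr rfl fun i _ => ?_
  rw [map_zsmul]
  congr 1
  have hR : Coh.IsCoh ((Coh.Rpush π i).obj F) := S0036.result π F hF i
  rw [show capHom Y (KRR.cl Y E) (KZero.clSub _ ((Coh.Rpush π i).obj F)) = _ from capHom_cl hE hR]
  obtain ⟨e⟩ := S0927.result π F E hE i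
  exact (clc_congr e).symm

/-- Projection formula for the action of bundles. -/
theorem push_capHom [IsProper π] (hgc : KRR.IsPushCoh π N gc) {E : Y.Modules}
    (hE : FlatMod.IsFinLocFree E) (ξ : SGA6.Kcoh X) :
    gc (capHom X (KRR.cl X ((Scheme.Modules.pullback π).obj E)) ξ) =
      capHom Y (KRR.cl Y E) (gc ξ) := by
  have hE' : FlatMod.IsFinLocFree ((Scheme.Modules.pullback π).obj E) :=
    PerfC.PullRestrict.isFinLocFree_pullback π hE
  have h : gc.comp (capHom X (KRR.cl X ((Scheme.Modules.pullback π).obj E))) =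
      (capHom Y (KRR.cl Y E)).comp gc := by
    refine hom_ext_sub fun F hF => ?_
    change gc (capHom X (KRR.cl X ((Scheme.Modules.pullback π).obj E)) (KDet.clc X F)) =
      capHom Y (KRR.cl Y E) (gc (KDet.clc X F))
    rw [capHom_cl hE' hF, push_tensor_clc π hgc hE hF]
  exact DFunLike.congr_fun h ξ

section models

variable {KX : Type v} [CommRing KX] {φX : SGA6.Kvb X →+ KX} {μ : KX →+ SGA6.Kcoh X →+ SGA6.Kcoh X}
  {KY : Type w} [CommRing KY] {φY : SGA6.Kvb Y →+ KY} {μY : KY →+ SGA6.Kcoh Y →+ SGA6.Kcoh Y}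

/-- Projection formula through models: `π_* (π^* y · ξ) = y · π_* ξ`. -/
theorem push_cap [IsProper π] (hgc : KRR.IsPushCoh π N gc) (hμ : KDet.IsCap φX μ) (hμY : KDet.IsCap φY μY)
    (hφY : Function.Surjective φY) {pX : KY →+ KX} (hpX : KRR.IsPull π φY φX pX) (y : KY)
    (ξ : SGA6.Kcoh X) : gc (μ (pX y) ξ) = μY y (gc ξ) := by
  obtain ⟨e, rfl⟩ := hφY y
  induction e using induction_sub with
  | zero => simp
  | cl E hE =>
    have h1 : pX (φY (KZero.clSub _ E)) = φX (KRR.cl X ((Scheme.Modules.pullback π).obj E)) :=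
      hpX E hE
    rw [h1, cap_eq hμ, cap_eq hμY]
    exact push_capHom π hgc hE ξ
  | neg e ih =>
    rw [map_neg, map_neg, map_neg, map_neg, AddMonoidHom.neg_apply, AddMonoidHom.neg_apply, map_neg, ih]
  | add e f he hf =>
    rw [map_add, map_add, map_add, map_add, AddMonoidHom.add_apply, AddMonoidHom.add_apply, map_add,
      he, hf]

/-- Projection formula through models: `π_* ((x · π^* y) · ξ) = y · π_* (x · ξ)`. -/
theorem push_cap_mul [IsProper π] (hgc : KRR.IsPushCoh π N gc) (hμ : KDet.IsCap φX μ)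
    (hμY : KDet.IsCap φY μY) (hφY : Function.Surjective φY) {pX : KY →+ KX}
    (hpX : KRR.IsPull π φY φX pX) (x : KX) (y : KY) (ξ : SGA6.Kcoh X) :
    gc (μ (x * pX y) ξ) = μY y (gc (μ x ξ)) := by
  rw [mul_comm, hμ.mul_smul, push_cap π hgc hμ hμY hφY hpX]

/-- Projection formula for one bundle, through a model upstairs. -/
theorem push_cap_bundle [IsProper π] (hgc : KRR.IsPushCoh π N gc) (hμ : KDet.IsCap φX μ)
    {E : Y.Modules} (hE : FlatMod.IsFinLocFree E) (x : KX) (ξ : SGA6.Kcoh X) :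
    gc (μ (x * φX (KRR.cl X ((Scheme.Modules.pullback π).obj E))) ξ) =
      capHom Y (KRR.cl Y E) (gc (μ x ξ)) := by
  rw [mul_comm, hμ.mul_smul, cap_eq hμ, push_capHom π hgc hE]

end models

end K570.ProjF
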