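import Groth.Agent.IntSh.K570.CompEuler
import Groth.Agent.Krr.H485.PushCoh
import Groth.Agent.S0036
import Groth.Agent.Sga67.K0Basic

/-!
# Composition of push-forwards on `K_•`
-/

set_option autoImplicit false
universe u
open CategoryTheory CategoryTheory.Limits AlgebraicGeometry

namespace K570.PushComp

open Groth.Agent Groth.Agent.Krr.H485 Groth.Agent.Krr.H485.EulerRD

variable {X Y S : Scheme.{u}} (π : X ⟶ Y) (ψ : Y ⟶ S)

/-- Direct images along a composition of proper morphisms: `(π ≫ ψ)_* = ψ_* ∘ π_*` on `K_•`. -/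
theorem push_comp [IsProper π] [IsProper ψ] [AlgebraicGeometry.IsLocallyNoetherian X]
    [AlgebraicGeometry.IsLocallyNoetherian Y] [AlgebraicGeometry.IsLocallyNoetherian S]
    [HasInjectiveResolutions X.Modules] [HasInjectiveResolutions Y.Modules]
    {N NS N₂ : ℕ} {gc : SGA6.Kcoh X →+ SGA6.Kcoh Y} {gcS : SGA6.Kcoh Y →+ SGA6.Kcoh S}
    {gc₂ : SGA6.Kcoh X →+ SGA6.Kcoh S} (hgc : KRR.IsPushCoh π N gc) (hgcS : KRR.IsPushCoh ψ NS gcS)
    (hgc₂ : KRR.IsPushCoh (π ≫ ψ) N₂ gc₂) (ξ : SGA6.Kcoh X) : gc₂ ξ = gcS (gc ξ) := by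
  have key : gc₂ = gcS.comp gc := by
    refine Groth.Agent.Sga67.K0Basic.hom_ext_sub fun F hF => ?_
    have h1 := hgc₂.2 F hF
    have h2 := hgc.2 F hF
    have hR : ∀ n, Coh.IsCoh ((Coh.Rpush π n).obj F) := fun n => S0036.result π F hF n
    have hRR : ∀ n j, Coh.IsCoh ((Coh.Rpush ψ j).obj ((Coh.Rpush π n).obj F)) := fun n j =>
      S0036.result ψ _ (hR n) j
    have := Groth.Agent.Cohder.RDLES.enoughInjectives (C := Y.Modules)
    have h3 := CompEuler.chi_comp (Scheme.Modules.pushforward π) (Scheme.Modules.pushforward ψ)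
      (Scheme.Modules.pushforward (π ≫ ψ)) (Scheme.Modules.pushforwardComp π ψ)
      (PushCoh.kclosed_coh S) (fun I _ j => LerayCl.acyc_push π ψ I j) F NS
      hRR (fun n j hj => hgcS.1 _ (hR n) (j + 1) (by omega)) N (fun n hn => hgc.1 F hF n hn)
      (max (N + NS) N₂) (le_max_left _ _)
    have h4 := chi_eq_of_le (Scheme.Modules.pushforward (π ≫ ψ))
      (Q := fun M : S.Modules => Coh.IsCoh M) (le_max_right (N + NS) N₂) (X := F)
      (fun n hn => hgc₂.1 F hF n hn)
    rw [h4] at h3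
    change gc₂ (KZero.clSub (fun M : X.Modules => Coh.IsCoh M) F) =
      gcS (gc (KZero.clSub (fun M : X.Modules => Coh.IsCoh M) F))
    rw [h1, h2, map_sum]
    refine Eq.trans h3 ?_
    refine Finset.sum_congr rfl fun n _ => ?_
    rw [map_zsmul]
    congr 1
    exact (hgcS.2 _ (hR n)).symm
  rw [key]
  rfl

end K570.PushComp
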