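import Groth.Agent.IntSh.K570.Tower

/-!
# Euler characteristic of the derived functors of a composition

`chi (F ⋙ G) = Σ (-1)^i chi G (R^i F)` for left exact functors `F`, `G` such that `F` sends injective objects
to `G`-acyclic objects.
-/

set_option autoImplicit false

universe v u v' u' v'' u''

open CategoryTheory CategoryTheory.Limits

namespace K570.CompEuler

open Groth.Agent.Cohder.KZBasic Groth.Agent.Cohder.RDLES K570.Tower
  Groth.Agent.Krr.H485.EulerRD
open Groth.Agent.Cohder.KZEuler (KClosed clSub_exact)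

section cx

variable {B : Type u} [Category.{v} B] [Abelian B]
  {C : Type u'} [Category.{v'} C] [Abelian C] (G : B ⥤ C) [G.Additive]
  (K : CochainComplex B ℕ)

/-- `G K` -/
noncomputable abbrev GK : CochainComplex C ℕ := (G.mapHomologicalComplex (ComplexShape.up ℕ)).obj K

section cyc

theorem w_map (n : ℕ) : G.map (K.iCycles n) ≫ (GK G K).d n (n + 1) = 0 := by
  change G.map (K.iCycles n) ≫ G.map (K.d n (n + 1)) = 0
  rw [← G.map_comp, K.iCycles_d, G.map_zero]

variable [PreservesFiniteLimits G]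

noncomputable def isLimitMap (n : ℕ) :
    IsLimit (KernelFork.ofι (f := (GK G K).d n (n + 1)) (G.map (K.iCycles n)) (w_map G K n)) := by
  have h := KernelFork.mapIsLimit _ (K.cyclesIsKernel n (n + 1) (by simp)) G
  refine IsLimit.ofIsoLimit h (Cone.ext (Iso.refl _) ?_)
  rintro (_ | _)
  · simp [KernelFork.map]
  · simp [KernelFork.map]
    rfl

/-- cycles commute with left exact functors -/
noncomputable def cyclesIso (n : ℕ) : G.obj (K.cycles n) ≅ (GK G K).cycles n :=
  IsLimit.conePointUniqueUpToIso (isLimitMap G K n) ((GK G K).cyclesIsKernel n (n + 1) (by simp))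

theorem cyclesIso_hom_i (n : ℕ) :
    (cyclesIso G K n).hom ≫ (GK G K).iCycles n = (G.map (K.iCycles n) : _ ⟶ G.obj (K.X n)) :=
  IsLimit.conePointUniqueUpToIso_hom_comp _ _ WalkingParallelPair.zero

theorem toCycles_cyclesIso (m n : ℕ) :
    G.map (K.toCycles m n) ≫ (cyclesIso G K n).hom = (GK G K).toCycles m n := by
  have h1 : G.map (K.toCycles m n) ≫ G.map (K.iCycles n) = G.map (K.d m n) := by
    rw [← G.map_comp, K.toCycles_i]
  have h2 : G.map (K.toCycles m n) ≫ (cyclesIso G K n).hom ≫ (GK G K).iCycles n =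
      (GK G K).d m n := by
    rw [cyclesIso_hom_i]
    exact h1
  rw [← cancel_mono ((GK G K).iCycles n), Category.assoc, h2]
  exact ((GK G K).toCycles_i m n).symm

/-- the homology of `G K` in positive degrees -/
noncomputable def homologySuccIso (n : ℕ) :
    cokernel (G.map (K.toCycles n (n + 1))) ≅ (GK G K).homology (n + 1) :=
  cokernel.mapIso (G.map (K.toCycles n (n + 1))) ((GK G K).toCycles n (n + 1)) (Iso.refl _)
    (cyclesIso G K (n + 1)) (by rw [toCycles_cyclesIso]; exact (Category.id_comp _).symm) ≪≫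
  (cokernelIsCokernel _).coconePointUniqueUpToIso
    ((GK G K).homologyIsCokernel n (n + 1) (by simp))

/-- the homology of `G K` in degree zero -/
noncomputable def homologyZeroIso : G.obj (K.cycles 0) ≅ (GK G K).homology 0 :=
  have := (GK G K).isIso_homologyπ 0 0 (by simp) (by simp)
  cyclesIso G K 0 ≪≫ asIso ((GK G K).homologyπ 0)

end cyc

/-! ### The tower -/

theorem exact_toCycles (n : ℕ) :
    (ShortComplex.mk (K.toCycles n (n + 1)) (K.homologyπ (n + 1))
      (K.toCycles_comp_homologyπ n (n + 1))).Exact :=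
  ShortComplex.exact_of_g_is_cokernel _ (K.homologyIsCokernel n (n + 1) (by simp))

/-- `X n → Bd (n+1)` -/
noncomputable def pB (n : ℕ) : K.X n ⟶ kernel (K.homologyπ (n + 1)) :=
  kernel.lift _ (K.toCycles n (n + 1)) (K.toCycles_comp_homologyπ n (n + 1))

theorem pB_ι (n : ℕ) : pB K n ≫ kernel.ι (K.homologyπ (n + 1)) = K.toCycles n (n + 1) :=
  kernel.lift_ι _ _ _

instance (n : ℕ) : Epi (pB K n) :=
  (ShortComplex.exact_iff_epi_kernel_lift _).1 (exact_toCycles K n)

theorem w₁ (n : ℕ) : K.iCycles n ≫ pB K n = 0 := by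
  rw [← cancel_mono (kernel.ι (K.homologyπ (n + 1))), Category.assoc, pB_ι, zero_comp,
    ← cancel_mono (K.iCycles (n + 1)), Category.assoc, K.toCycles_i, K.iCycles_d, zero_comp]

theorem w₂ (n : ℕ) : kernel.ι (K.homologyπ (n + 1)) ≫ K.homologyπ (n + 1) = 0 := kernel.condition _

theorem ses₁ (n : ℕ) : (ShortComplex.mk (K.iCycles n) (pB K n) (w₁ K n)).ShortExact where
  exact := by
    have h1 : (ShortComplex.mk (K.iCycles n) (K.d n (n + 1)) (K.iCycles_d n (n + 1))).Exact :=
      ShortComplex.exact_of_f_is_kernel _ (K.cyclesIsKernel n (n + 1) (by simp))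
    exact (ShortComplex.exact_iff_of_epi_of_isIso_of_mono
      (S₁ := ShortComplex.mk (K.iCycles n) (pB K n) (w₁ K n))
      (S₂ := ShortComplex.mk (K.iCycles n) (K.d n (n + 1)) (K.iCycles_d n (n + 1)))
      { τ₁ := 𝟙 _
        τ₂ := 𝟙 _
        τ₃ := kernel.ι (K.homologyπ (n + 1)) ≫ K.iCycles (n + 1)
        comm₂₃ := by
          dsimp only
          rw [← Category.assoc, pB_ι, K.toCycles_i, Category.id_comp] }).2 h1
  mono_f := inferInstanceAs (Mono (K.iCycles n))
  epi_g := inferInstanceAs (Epi (pB K n))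

theorem ses₂ (n : ℕ) : (ShortComplex.mk (kernel.ι (K.homologyπ (n + 1))) (K.homologyπ (n + 1))
    (w₂ K n)).ShortExact where
  exact := ShortComplex.exact_of_f_is_kernel _ (kernelIsKernel _)
  mono_f := inferInstanceAs (Mono (kernel.ι _))
  epi_g := inferInstanceAs (Epi (K.homologyπ (n + 1)))

variable [HasInjectiveResolutions B]

theorem isTower (hac : ∀ n j, IsZero ((G.rightDerived (j + 1)).obj (K.X n))) :
    IsTower G (fun n => K.cycles n) (fun n => K.X n) (fun n => kernel (K.homologyπ n))
      (fun n => K.homology n) (fun n => K.iCycles n) (pB K)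
      (fun n => kernel.ι (K.homologyπ (n + 1))) (fun n => K.homologyπ (n + 1)) (w₁ K) (w₂ K) where
  ses₁ := ses₁ K
  ses₂ := ses₂ K
  acyc := hac
  zero := by
    have := K.isIso_homologyπ 0 0 (by simp) (by simp)
    exact ⟨asIso (K.homologyπ 0)⟩

variable [PreservesFiniteLimits G] {Q : ObjectProperty C}

theorem cokernel_iso_homology (n : ℕ) :
    Nonempty (cokernel ((G.rightDerived 0).map (pB K n) ≫
      (G.rightDerived 0).map (kernel.ι (K.homologyπ (n + 1)))) ≅ (GK G K).homology (n + 1)) := by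
  have := enoughInjectives (C := B)
  have h1 : (G.rightDerived 0).map (pB K n) ≫
      (G.rightDerived 0).map (kernel.ι (K.homologyπ (n + 1))) =
      (G.rightDerived 0).map (K.toCycles n (n + 1)) := by
    rw [← Functor.map_comp, pB_ι]
  rw [h1]
  exact ⟨cokernel.mapIso _ _ (G.rightDerivedZeroIsoSelf.app _) (G.rightDerivedZeroIsoSelf.app _)
    (G.rightDerivedZeroIsoSelf.hom.naturality _) ≪≫ homologySuccIso G K n⟩

/-- Euler characteristic of `G K` for a complex with acyclic terms. -/
theorem sum_homology (hQ : KClosed Q) (hac : ∀ n j, IsZero ((G.rightDerived (j + 1)).obj (K.X n)))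
    (M : ℕ) (hH : ∀ n j, Q ((G.rightDerived j).obj (K.homology n)))
    (hM : ∀ n j, M ≤ j → IsZero ((G.rightDerived (j + 1)).obj (K.homology n)))
    (N : ℕ) (hN : ∀ n, N < n → IsZero (K.homology n)) (L : ℕ) (hL : N + M ≤ L) :
    (∀ n, Q ((GK G K).homology n)) ∧
    ∑ n ∈ Finset.range (L + 1), (-1 : ℤ) ^ n • KZero.clSub Q ((GK G K).homology n) =
      ∑ n ∈ Finset.range (N + 1), (-1 : ℤ) ^ n • chi G Q M (K.homology n) := by
  have := enoughInjectives (C := B)
  have T := isTower G K hac
  have hZ0 : Q ((G.rightDerived 0).obj (K.cycles 0)) := by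
    obtain ⟨e⟩ := T.zero
    exact hQ.iso ((G.rightDerived 0).mapIso e.symm) (hH 0 0)
  let e0 : (G.rightDerived 0).obj (K.cycles 0) ≅ (GK G K).homology 0 :=
    G.rightDerivedZeroIsoSelf.app _ ≪≫ homologyZeroIso G K
  have hq : ∀ n, Q ((GK G K).homology n) := by
    intro n
    cases n with
    | zero => exact hQ.iso e0 hZ0
    | succ n =>
      obtain ⟨e⟩ := cokernel_iso_homology G K n
      exact hQ.iso e (T.coker_class hQ M hH hM n).1
  refine ⟨hq, ?_⟩
  refine T.sum_eq_chi hQ M hH hM (fun n => KZero.clSub Q ((GK G K).homology n)) ?_ ?_ N hN L hL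
  · exact (clSub_iso Q hQ.zero e0 hZ0 (hq 0)).symm
  · intro n
    obtain ⟨e⟩ := cokernel_iso_homology G K n
    exact (clSub_iso Q hQ.zero e (T.coker_class hQ M hH hM n).1 (hq (n + 1))).symm

end cx

section comp

variable {A : Type u''} [Category.{v''} A] [Abelian A] [HasInjectiveResolutions A]
  {B : Type u} [Category.{v} B] [Abelian B] [HasInjectiveResolutions B]
  {C : Type u'} [Category.{v'} C] [Abelian C] (F : A ⥤ B) [F.Additive] (G : B ⥤ C) [G.Additive]
  (H : A ⥤ C) [H.Additive] (e : F ⋙ G ≅ H) [PreservesFiniteLimits G] {Q : ObjectProperty C}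

include e in
/-- **Euler characteristics of a composition**. -/
theorem chi_comp (hQ : KClosed Q)
    (hac : ∀ (I : A) [Injective I] (j : ℕ), IsZero ((G.rightDerived (j + 1)).obj (F.obj I))) (X : A)
    (M : ℕ) (hH : ∀ n j, Q ((G.rightDerived j).obj ((F.rightDerived n).obj X)))
    (hM : ∀ n j, M ≤ j → IsZero ((G.rightDerived (j + 1)).obj ((F.rightDerived n).obj X)))
    (N : ℕ) (hN : ∀ n, N < n → IsZero ((F.rightDerived n).obj X)) (L : ℕ) (hL : N + M ≤ L) :
    chi H Q L X = ∑ n ∈ Finset.range (N + 1), (-1 : ℤ) ^ n • chi G Q M ((F.rightDerived n).obj X) := by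
  let I := injectiveResolution X
  let K : CochainComplex B ℕ := (F.mapHomologicalComplex (ComplexShape.up ℕ)).obj I.cocomplex
  have eF : ∀ n, (F.rightDerived n).obj X ≅ K.homology n := fun n => I.isoRightDerivedObj F n
  have eH : ∀ n, (H.rightDerived n).obj X ≅ (GK G K).homology n := fun n =>
    I.isoRightDerivedObj H n ≪≫ (HomologicalComplex.homologyFunctor C _ n).mapIso
      (HomologicalComplex.Hom.isoOfComponents (fun i => (e.app (I.cocomplex.X i)).symm)
        (fun i j _ => (e.inv.naturality (I.cocomplex.d i j)).symm))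
  have hH' : ∀ n j, Q ((G.rightDerived j).obj (K.homology n)) := fun n j =>
    hQ.iso ((G.rightDerived j).mapIso (eF n)) (hH n j)
  have key := sum_homology G K hQ (fun n j => hac (I.cocomplex.X n) j) M hH'
    (fun n j hj => (hM n j hj).of_iso ((G.rightDerived (j + 1)).mapIso (eF n).symm))
    N (fun n hn => (hN n hn).of_iso (eF n).symm) L hL
  have e1 : chi H Q L X =
      ∑ n ∈ Finset.range (L + 1), (-1 : ℤ) ^ n • KZero.clSub Q ((GK G K).homology n) := by
    unfold chi
    refine Finset.sum_congr rfl fun n _ => ?_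
    rw [clSub_iso Q hQ.zero (eH n) (hQ.iso (eH n).symm (key.1 n)) (key.1 n)]
  rw [e1, key.2]
  refine Finset.sum_congr rfl fun n _ => ?_
  congr 1
  unfold chi
  refine Finset.sum_congr rfl fun j _ => ?_
  rw [clSub_iso Q hQ.zero ((G.rightDerived j).mapIso (eF n)) (hH n j) (hH' n j)]

end comp

end K570.CompEuler
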