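import Groth.Agent.Krr.H485.EulerRD
import Mathlib.CategoryTheory.Abelian.DiagramLemmas.KernelCokernelComp

/-!
# Euler characteristics of the derived functors of a left exact functor on a tower

A tower: short exact sequences `0 → Z n → X n → Bd (n+1) → 0` with `X n` acyclic and
`0 → Bd (n+1) → Z (n+1) → H (n+1) → 0`, `Z 0 ≅ H 0`.  Then the class of the cokernel of
`R⁰ (X n) → R⁰ (Z (n+1))` is computed by the Euler characteristics of the `H n`.
-/

set_option autoImplicit false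

universe v u v' u'

open CategoryTheory CategoryTheory.Limits

namespace K570.Tower

open Groth.Agent.Cohder.KZBasic Groth.Agent.Cohder.RDLES
  Groth.Agent.Krr.H485.EulerRD
open Groth.Agent.Cohder.KZEuler (KClosed clSub_exact)

section coker

variable {C : Type u'} [Category.{v'} C] [Abelian C]

open kernelCokernelCompSequence in
/-- `0 → coker f → coker (f ≫ g) → coker g → 0` for `g` mono. -/
theorem shortExact_cokernel_comp {X Y Z : C} (f : X ⟶ Y) (g : Y ⟶ Z) [Mono g] :
    (ShortComplex.mk (cokernel.map f (f ≫ g) (𝟙 _) g (by simp))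
      (cokernel.map (f ≫ g) g f (𝟙 _) (by simp)) (by aesop)).ShortExact := by
  have h1 : (ShortComplex.mk (cokernel.map f (f ≫ g) (𝟙 _) g (by simp))
      (cokernel.map (f ≫ g) g f (𝟙 _) (by simp)) (by aesop)).Exact := (snakeInput f g).L₃_exact
  have h2 := (snakeInput f g).L₂'_exact
  have hk : IsZero (kernel g) := isZero_kernel_of_mono g
  have h3 : Mono (snakeInput f g).L₃.f := by
    rw [Preadditive.mono_iff_cancel_zero]
    intro P k hk0
    have h4 := (ShortComplex.exact_iff_mono _ (show (snakeInput f g).L₂'.f = 0 from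
      hk.eq_of_src _ _)).1 h2
    exact (Preadditive.mono_iff_cancel_zero _).1 h4 P k hk0
  have h5 : Epi (cokernel.map (f ≫ g) g f (𝟙 _) (by simp)) := by
    refine epi_of_epi_fac (f := cokernel.π (f ≫ g)) (h := cokernel.π g) ?_
    simp
  exact { exact := h1, mono_f := h3, epi_g := h5 }

/-- In an exact sequence `A → B → D` with `g` epi, `coker f ≅ D`. -/
theorem cokernel_iso_of_exact_epi {A B D : C} (f : A ⟶ B) (g : B ⟶ D) (w : f ≫ g = 0)
    (h : (ShortComplex.mk f g w).Exact) [Epi g] : Nonempty (cokernel f ≅ D) :=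
  ⟨(cokernelIsCokernel f).coconePointUniqueUpToIso h.gIsCokernel⟩

/-- In an exact sequence `A → B → D`, `coker f ≅ im g`. -/
theorem cokernel_iso_image_of_exact {A B D : C} (f : A ⟶ B) (g : B ⟶ D) (w : f ≫ g = 0)
    (h : (ShortComplex.mk f g w).Exact) : Nonempty (cokernel f ≅ Abelian.image g) := by
  have w' : f ≫ Abelian.factorThruImage g = 0 := by
    rw [← cancel_mono (Abelian.image.ι g), Category.assoc, Abelian.image.fac, w, zero_comp]
  refine cokernel_iso_of_exact_epi f (Abelian.factorThruImage g) w' ?_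
  exact (ShortComplex.exact_iff_of_epi_of_isIso_of_mono
    (S₁ := ShortComplex.mk f (Abelian.factorThruImage g) w') (S₂ := ShortComplex.mk f g w)
    { τ₁ := 𝟙 _
      τ₂ := 𝟙 _
      τ₃ := Abelian.image.ι g }).2 h

/-- In an exact sequence `B → D → E`, `im g ≅ ker h`. -/
theorem image_iso_kernel_of_exact {B D E : C} (g : B ⟶ D) (h : D ⟶ E) (w : g ≫ h = 0)
    (hex : (ShortComplex.mk g h w).Exact) : Nonempty (Abelian.image g ≅ kernel h) := by
  have w' : Abelian.image.ι g ≫ h = 0 := Abelian.image_ι_comp_eq_zero w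
  have hex' : (ShortComplex.mk (Abelian.image.ι g) h w').Exact := by
    rw [ShortComplex.exact_iff_exact_image_ι] at hex
    exact hex
  exact ⟨IsLimit.conePointUniqueUpToIso (s := KernelFork.ofι _ w')
    (t := KernelFork.ofι (kernel.ι h) (kernel.condition h)) hex'.fIsKernel (kernelIsKernel h)⟩

end coker

variable {B : Type u} [Category.{v} B] [Abelian B] [HasInjectiveResolutions B]
  {C : Type u'} [Category.{v'} C] [Abelian C] (G : B ⥤ C) [G.Additive] (Q : ObjectProperty C)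

theorem isZero_rightDerived {Y : B} (hY : IsZero Y) (n : ℕ) : IsZero ((G.rightDerived n).obj Y) := by
  have := enoughInjectives (C := B)
  have : (G.rightDerived n).Additive := Groth.Agent.Etcore.DerLES.rightDerived_additive G n
  rw [IsZero.iff_id_eq_zero, ← (G.rightDerived n).map_id, hY.eq_of_src (𝟙 Y) 0, Functor.map_zero]

/-- `[R¹ G Y] - [R² G Y] + ⋯` (with `M` terms). -/
noncomputable def chiP (M : ℕ) (Y : B) : KZero.K0sub Q :=
  ∑ j ∈ Finset.range M, (-1 : ℤ) ^ j • KZero.clSub Q ((G.rightDerived (j + 1)).obj Y)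

theorem chi_eq (M : ℕ) (Y : B) :
    chi G Q M Y = KZero.clSub Q ((G.rightDerived 0).obj Y) - chiP G Q M Y := by
  unfold chi chiP
  rw [Finset.sum_range_succ', pow_zero, one_smul, add_comm, sub_eq_add_neg, ← Finset.sum_neg_distrib]
  congr 1
  refine Finset.sum_congr rfl fun j _ => ?_
  rw [pow_succ, mul_neg, mul_one, neg_smul]

theorem chiP_succ (M : ℕ) (Y : B) :
    chiP G Q (M + 1) Y = KZero.clSub Q ((G.rightDerived 1).obj Y) -
      ∑ j ∈ Finset.range M, (-1 : ℤ) ^ j • KZero.clSub Q ((G.rightDerived (j + 2)).obj Y) := by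
  unfold chiP
  rw [Finset.sum_range_succ', pow_zero, one_smul, add_comm, sub_eq_add_neg, ← Finset.sum_neg_distrib]
  congr 1
  refine Finset.sum_congr rfl fun j _ => ?_
  rw [pow_succ, mul_neg, mul_one, neg_smul]

/-- Short exact sequences with acyclic middle term shift the derived functors. -/
theorem shift {S : ShortComplex B} (hS : S.ShortExact)
    (hac : ∀ j, IsZero ((G.rightDerived (j + 1)).obj S.X₂)) :
    (∀ j, Nonempty ((G.rightDerived (j + 1)).obj S.X₃ ≅ (G.rightDerived (j + 2)).obj S.X₁)) ∧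
      Nonempty (cokernel ((G.rightDerived 0).map S.g) ≅ (G.rightDerived 1).obj S.X₁) := by
  obtain ⟨-, -, δ, hδ⟩ := exists_les G hS
  constructor
  · intro j
    obtain ⟨w₁, w₂, h₁, h₂⟩ := hδ (j + 1)
    have hm : Mono (δ (j + 1)) :=
      (ShortComplex.exact_iff_mono _ ((hac j).eq_of_src _ _)).1 h₁
    have he : Epi (δ (j + 1)) :=
      (ShortComplex.exact_iff_epi _ ((hac (j + 1)).eq_of_tgt _ _)).1 h₂
    have := isIso_of_mono_of_epi (δ (j + 1))
    exact ⟨asIso (δ (j + 1))⟩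
  · obtain ⟨w₁, w₂, h₁, h₂⟩ := hδ 0
    have he : Epi (δ 0) :=
      (ShortComplex.exact_iff_epi _ ((hac 0).eq_of_tgt _ _)).1 h₂
    exact cokernel_iso_of_exact_epi _ _ w₁ h₁

/-- Short exact sequences `0 → Bd → Z → H → 0` with `R^j H` in `Q` for all `j` and `R^j Bd` in `Q` for `j > 0`. -/
theorem ses_second (hQ : KClosed Q) {S : ShortComplex B} (hS : S.ShortExact)
    (h₁ : ∀ j, Q ((G.rightDerived (j + 1)).obj S.X₁)) (h₃ : ∀ j, Q ((G.rightDerived j).obj S.X₃))
    (M : ℕ) (hM : IsZero ((G.rightDerived (M + 1)).obj S.X₁)) :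
    (∀ j, Q ((G.rightDerived (j + 1)).obj S.X₂)) ∧
      Q (cokernel ((G.rightDerived 0).map S.f)) ∧
      KZero.clSub Q (cokernel ((G.rightDerived 0).map S.f)) =
        chi G Q M S.X₃ - chiP G Q M S.X₁ + chiP G Q M S.X₂ := by
  obtain ⟨-, hex₂, δ, hδ⟩ := exists_les G hS
  have w : ∀ n, (G.rightDerived n).map S.f ≫ (G.rightDerived n).map S.g = 0 := by
    intro n
    have := enoughInjectives (C := B)
    have : (G.rightDerived n).Additive := Groth.Agent.Etcore.DerLES.rightDerived_additive G n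
    rw [← Functor.map_comp, S.zero, Functor.map_zero]
  have hX₂ : ∀ j, Q ((G.rightDerived (j + 1)).obj S.X₂) := by
    intro j
    obtain ⟨w₁, w₂, e₁, e₂⟩ := hδ (j + 1)
    obtain ⟨v₁, v₂, f₁, f₂⟩ := hδ j
    have i1 : Q (cokernel (δ j)) := hQ.coker _ (h₃ j) (h₁ j)
    obtain ⟨a⟩ := cokernel_iso_image_of_exact _ _ v₂ f₂
    have i2 : Q (Abelian.image ((G.rightDerived (j + 1)).map S.f)) := hQ.iso a i1
    obtain ⟨b⟩ := image_iso_kernel_of_exact _ _ w₁ e₁
    have i3 : Q (Abelian.image ((G.rightDerived (j + 1)).map S.g)) :=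
      hQ.iso b.symm (hQ.ker _ (h₃ (j + 1)) (h₁ (j + 1)))
    have h0 := hex₂ (j + 1) (w (j + 1))
    have hz : Abelian.image.ι ((G.rightDerived (j + 1)).map S.f) ≫
        Abelian.factorThruImage ((G.rightDerived (j + 1)).map S.g) = 0 := by
      rw [← cancel_mono (Abelian.image.ι ((G.rightDerived (j + 1)).map S.g))]
      simp only [Category.assoc, Abelian.image.fac, zero_comp]
      exact Abelian.image_ι_comp_eq_zero (w (j + 1))
    have hT : (ShortComplex.mk _ _ hz).ShortExact :=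
      { exact := by
          rw [ShortComplex.exact_iff_exact_image_ι] at h0
          refine (ShortComplex.exact_iff_of_epi_of_isIso_of_mono (S₁ := ShortComplex.mk _ _ hz)
            (S₂ := ShortComplex.mk (Abelian.image.ι ((G.rightDerived (j + 1)).map S.f))
              ((G.rightDerived (j + 1)).map S.g) (Abelian.image_ι_comp_eq_zero (w (j + 1))))
            { τ₁ := 𝟙 _
              τ₂ := 𝟙 _
              τ₃ := Abelian.image.ι ((G.rightDerived (j + 1)).map S.g)
              comm₂₃ := by simp }).2 h0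
        mono_f := inferInstanceAs (Mono (Abelian.image.ι _))
        epi_g := inferInstanceAs (Epi (Abelian.factorThruImage _)) }
    exact hQ.ext _ hT i2 i3
  obtain ⟨w₁, w₂, e₁, e₂⟩ := hδ 0
  obtain ⟨a⟩ := cokernel_iso_image_of_exact _ _ (w 0) (hex₂ 0 (w 0))
  obtain ⟨b⟩ := image_iso_kernel_of_exact _ _ w₁ e₁
  have hker : Q (kernel (δ 0)) := hQ.ker _ (h₃ 0) (h₁ 0)
  have him : Q (Abelian.image ((G.rightDerived 0).map S.g)) := hQ.iso b.symm hker
  have hcok : Q (cokernel ((G.rightDerived 0).map S.f)) := hQ.iso a.symm him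
  refine ⟨hX₂, hcok, ?_⟩
  rw [clSub_iso Q hQ.zero a hcok him]
  -- bookkeeping
  let l : ℕ → KZero.K0sub Q := fun n => KZero.clSub Q (Abelian.image (δ n))
  let α : ℕ → KZero.K0sub Q := fun n => KZero.clSub Q (Abelian.image ((G.rightDerived (n + 1)).map S.f))
  let β : ℕ → KZero.K0sub Q := fun n => KZero.clSub Q (Abelian.image ((G.rightDerived n).map S.g))
  have ea : ∀ n, KZero.clSub Q ((G.rightDerived (n + 1)).obj S.X₁) = l n + α n := fun n => by
    obtain ⟨w₁, w₂, hw₁, hw₂⟩ := hδ n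
    exact clSub_exact hQ _ hw₂ (h₃ n) (h₁ n) (hX₂ n)
  have eb : ∀ n, KZero.clSub Q ((G.rightDerived (n + 1)).obj S.X₂) = α n + β (n + 1) := fun n =>
    clSub_exact hQ _ (hex₂ (n + 1) (w (n + 1))) (h₁ n) (hX₂ n) (h₃ (n + 1))
  have ec : ∀ n, KZero.clSub Q ((G.rightDerived (n + 1)).obj S.X₃) = β (n + 1) + l (n + 1) :=
    fun n => by
    obtain ⟨w₁, w₂, hw₁, hw₂⟩ := hδ (n + 1)
    exact clSub_exact hQ _ hw₁ (hX₂ n) (h₃ (n + 1)) (h₁ (n + 1))
  have ec0 : KZero.clSub Q ((G.rightDerived 0).obj S.X₃) = β 0 + l 0 := by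
    have hz : Abelian.image.ι ((G.rightDerived 0).map S.g) ≫ Abelian.factorThruImage (δ 0) = 0 := by
      rw [← cancel_mono (Abelian.image.ι (δ 0))]
      simp only [Category.assoc, Abelian.image.fac, zero_comp]
      exact Abelian.image_ι_comp_eq_zero w₁
    have hT : (ShortComplex.mk _ _ hz).ShortExact :=
      { exact := by
          rw [ShortComplex.exact_iff_exact_image_ι] at e₁
          refine (ShortComplex.exact_iff_of_epi_of_isIso_of_mono (S₁ := ShortComplex.mk _ _ hz)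
            (S₂ := ShortComplex.mk (Abelian.image.ι ((G.rightDerived 0).map S.g)) (δ 0)
              (Abelian.image_ι_comp_eq_zero w₁))
            { τ₁ := 𝟙 _
              τ₂ := 𝟙 _
              τ₃ := Abelian.image.ι (δ 0)
              comm₂₃ := by simp }).2 e₁
        mono_f := inferInstanceAs (Mono (Abelian.image.ι _))
        epi_g := inferInstanceAs (Epi (Abelian.factorThruImage _)) }
    exact clSub_shortExact Q _ hT him (h₃ 0) (hQ.image _ (h₃ 0) (h₁ 0))
  have hl : l M = 0 := clSub_zero Q (isZero_image_of_target _ hM)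
  have key : ∀ M, chi G Q M S.X₃ - chiP G Q M S.X₁ + chiP G Q M S.X₂ =
      β 0 + (-1 : ℤ) ^ M • l M := by
    intro M
    induction M with
    | zero =>
      unfold chi chiP
      simp only [Finset.range_zero, Finset.sum_empty, zero_add, Finset.range_one,
        Finset.sum_singleton, pow_zero, one_smul, sub_zero, add_zero]
      exact ec0
    | succ M ih =>
      have e1 : chi G Q (M + 1) S.X₃ = chi G Q M S.X₃ + (-1 : ℤ) ^ (M + 1) •
          KZero.clSub Q ((G.rightDerived (M + 1)).obj S.X₃) := Finset.sum_range_succ _ _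
      have e2 : chiP G Q (M + 1) S.X₁ = chiP G Q M S.X₁ + (-1 : ℤ) ^ M •
          KZero.clSub Q ((G.rightDerived (M + 1)).obj S.X₁) := Finset.sum_range_succ _ _
      have e3 : chiP G Q (M + 1) S.X₂ = chiP G Q M S.X₂ + (-1 : ℤ) ^ M •
          KZero.clSub Q ((G.rightDerived (M + 1)).obj S.X₂) := Finset.sum_range_succ _ _
      rw [e1, e2, e3, ea, eb, ec]
      have e4 : chi G Q M S.X₃ + (-1 : ℤ) ^ (M + 1) • (β (M + 1) + l (M + 1)) -
          (chiP G Q M S.X₁ + (-1 : ℤ) ^ M • (l M + α M)) +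
          (chiP G Q M S.X₂ + (-1 : ℤ) ^ M • (α M + β (M + 1))) =
          (chi G Q M S.X₃ - chiP G Q M S.X₁ + chiP G Q M S.X₂) - (-1 : ℤ) ^ M • l M +
            (-1 : ℤ) ^ (M + 1) • l (M + 1) := by
        rw [pow_succ]
        module
      rw [e4, ih]
      abel
  rw [key M, hl, smul_zero, add_zero]

/-- A tower of short exact sequences. -/
structure IsTower (Z X Bd H : ℕ → B) (i : ∀ n, Z n ⟶ X n) (p : ∀ n, X n ⟶ Bd (n + 1))
    (k : ∀ n, Bd (n + 1) ⟶ Z (n + 1)) (q : ∀ n, Z (n + 1) ⟶ H (n + 1)) (w₁ : ∀ n, i n ≫ p n = 0)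
    (w₂ : ∀ n, k n ≫ q n = 0) : Prop where
  ses₁ : ∀ n, (ShortComplex.mk (i n) (p n) (w₁ n)).ShortExact
  ses₂ : ∀ n, (ShortComplex.mk (k n) (q n) (w₂ n)).ShortExact
  acyc : ∀ n j, IsZero ((G.rightDerived (j + 1)).obj (X n))
  zero : Nonempty (Z 0 ≅ H 0)

variable {Z X Bd H : ℕ → B} {i : ∀ n, Z n ⟶ X n} {p : ∀ n, X n ⟶ Bd (n + 1)}
    {k : ∀ n, Bd (n + 1) ⟶ Z (n + 1)} {q : ∀ n, Z (n + 1) ⟶ H (n + 1)} {w₁ : ∀ n, i n ≫ p n = 0}
    {w₂ : ∀ n, k n ≫ q n = 0}

variable {Q G}

theorem IsTower.props (hQ : KClosed Q) (T : IsTower G Z X Bd H i p k q w₁ w₂) (M : ℕ)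
    (hH : ∀ n j, Q ((G.rightDerived j).obj (H n)))
    (hM : ∀ n j, M ≤ j → IsZero ((G.rightDerived (j + 1)).obj (H n))) (n : ℕ) :
    (∀ j, Q ((G.rightDerived (j + 1)).obj (Z n))) ∧
      (∀ j, M ≤ j → IsZero ((G.rightDerived (j + 1)).obj (Z n))) := by
  induction n with
  | zero =>
    obtain ⟨e⟩ := T.zero
    exact ⟨fun j => hQ.iso ((G.rightDerived (j + 1)).mapIso e.symm) (hH 0 _),
      fun j hj => (hM 0 j hj).of_iso ((G.rightDerived (j + 1)).mapIso e)⟩
  | succ n ih =>
    have hsh := (shift G (T.ses₁ n) (T.acyc n)).1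
    have hB1 : ∀ j, Q ((G.rightDerived (j + 1)).obj (Bd (n + 1))) := fun j => by
      obtain ⟨e⟩ := hsh j
      exact hQ.iso e.symm (ih.1 (j + 1))
    have hB2 : ∀ j, M ≤ j → IsZero ((G.rightDerived (j + 1)).obj (Bd (n + 1))) := fun j hj => by
      obtain ⟨e⟩ := hsh j
      exact (ih.2 (j + 1) (by omega)).of_iso e
    refine ⟨(ses_second G Q hQ (T.ses₂ n) hB1 (hH (n + 1)) M (hB2 M le_rfl)).1, fun j hj => ?_⟩
    obtain ⟨-, hex₂, -, -⟩ := exists_les G (T.ses₂ n)
    have := enoughInjectives (C := B)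
    have : (G.rightDerived (j + 1)).Additive :=
      Groth.Agent.Etcore.DerLES.rightDerived_additive G (j + 1)
    have w : (G.rightDerived (j + 1)).map (k n) ≫ (G.rightDerived (j + 1)).map (q n) = 0 := by
      rw [← Functor.map_comp, w₂ n, Functor.map_zero]
    exact (hex₂ (j + 1) w).isZero_of_both_zeros ((hB2 j hj).eq_of_src _ _)
      ((hM (n + 1) j hj).eq_of_tgt _ _)

theorem IsTower.vanish (hQ : KClosed Q) (T : IsTower G Z X Bd H i p k q w₁ w₂) (M : ℕ)
    (hH : ∀ n j, Q ((G.rightDerived j).obj (H n)))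
    (hM : ∀ n j, M ≤ j → IsZero ((G.rightDerived (j + 1)).obj (H n))) (N : ℕ)
    (hN : ∀ n, N < n → IsZero (H n)) (m j : ℕ) (hmj : M ≤ j + m) :
    IsZero ((G.rightDerived (j + 1)).obj (Z (N + m))) := by
  induction m generalizing j with
  | zero => exact (T.props hQ M hH hM N).2 j (by simpa using hmj)
  | succ m ih =>
    obtain ⟨e⟩ := (shift G (T.ses₁ (N + m)) (T.acyc (N + m))).1 j
    have h1 : IsZero ((G.rightDerived (j + 1)).obj (Bd (N + m + 1))) :=
      (ih (j + 1) (by omega)).of_iso e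
    have h2 : IsZero (H (N + m + 1)) := hN _ (by omega)
    have h3 := T.ses₂ (N + m)
    have h4 : Epi (k (N + m)) := (ShortComplex.exact_iff_epi _ (h2.eq_of_tgt _ _)).1 h3.exact
    have h5 : Mono (k (N + m)) := h3.mono_f
    have := isIso_of_mono_of_epi (k (N + m))
    exact h1.of_iso ((G.rightDerived (j + 1)).mapIso (asIso (k (N + m)))).symm

/-- The class of the cokernel of `R⁰ X n → R⁰ Z (n+1)`. -/
theorem IsTower.coker_class (hQ : KClosed Q)
    (T : IsTower G Z X Bd H i p k q w₁ w₂) (M : ℕ)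
    (hH : ∀ n j, Q ((G.rightDerived j).obj (H n)))
    (hM : ∀ n j, M ≤ j → IsZero ((G.rightDerived (j + 1)).obj (H n))) (n : ℕ) :
    Q (cokernel ((G.rightDerived 0).map (p n) ≫ (G.rightDerived 0).map (k n))) ∧
    KZero.clSub Q (cokernel ((G.rightDerived 0).map (p n) ≫ (G.rightDerived 0).map (k n))) =
      chi G Q M (H (n + 1)) + chiP G Q M (Z n) + chiP G Q M (Z (n + 1)) := by
  have hp := T.props hQ M hH hM n
  obtain ⟨hsh, ⟨e0⟩⟩ := shift G (T.ses₁ n) (T.acyc n)
  have hB1 : ∀ j, Q ((G.rightDerived (j + 1)).obj (Bd (n + 1))) := fun j => by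
    obtain ⟨e⟩ := hsh j
    exact hQ.iso e.symm (hp.1 (j + 1))
  have hB2 : ∀ j, M ≤ j → IsZero ((G.rightDerived (j + 1)).obj (Bd (n + 1))) := fun j hj => by
    obtain ⟨e⟩ := hsh j
    exact (hp.2 (j + 1) (by omega)).of_iso e
  obtain ⟨-, hq1, hq2⟩ := ses_second G Q hQ (T.ses₂ n) hB1 (hH (n + 1)) M (hB2 M le_rfl)
  obtain ⟨hmono, -, -, -⟩ := exists_les G (T.ses₂ n)
  have hmono' : Mono ((G.rightDerived 0).map (k n)) := hmono
  have hc := shortExact_cokernel_comp ((G.rightDerived 0).map (p n)) ((G.rightDerived 0).map (k n))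
  have hq0 : Q (cokernel ((G.rightDerived 0).map (p n))) := hQ.iso e0.symm (hp.1 0)
  have hqc : Q (cokernel ((G.rightDerived 0).map (p n) ≫ (G.rightDerived 0).map (k n))) :=
    hQ.ext _ hc hq0 hq1
  refine ⟨hqc, ?_⟩
  have h1 := clSub_shortExact Q _ hc hq0 hqc hq1
  have h2 : KZero.clSub Q (cokernel ((G.rightDerived 0).map (p n))) =
      KZero.clSub Q ((G.rightDerived 1).obj (Z n)) := clSub_iso Q hQ.zero e0 hq0 (hp.1 0)
  have h3 : chiP G Q M (Bd (n + 1)) = KZero.clSub Q ((G.rightDerived 1).obj (Z n)) -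
      chiP G Q M (Z n) := by
    have h4 := chiP_succ G Q M (Z n)
    have h5 : chiP G Q (M + 1) (Z n) = chiP G Q M (Z n) := by
      have : chiP G Q (M + 1) (Z n) = chiP G Q M (Z n) + (-1 : ℤ) ^ M •
        KZero.clSub Q ((G.rightDerived (M + 1)).obj (Z n)) := Finset.sum_range_succ _ _
      rw [this, clSub_zero Q (hp.2 M le_rfl), smul_zero, add_zero]
    rw [h5] at h4
    rw [h4, sub_sub_cancel]
    unfold chiP
    refine Finset.sum_congr rfl fun j _ => ?_
    obtain ⟨e⟩ := hsh j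
    rw [clSub_iso Q hQ.zero e (hB1 j) (hp.1 (j + 1))]
  change KZero.clSub Q (cokernel ((G.rightDerived 0).map (p n) ≫ (G.rightDerived 0).map (k n))) =
    KZero.clSub Q (cokernel ((G.rightDerived 0).map (p n))) +
      KZero.clSub Q (cokernel ((G.rightDerived 0).map (k n))) at h1
  change KZero.clSub Q (cokernel ((G.rightDerived 0).map (k n))) = chi G Q M (H (n + 1)) -
    chiP G Q M (Bd (n + 1)) + chiP G Q M (Z (n + 1)) at hq2
  rw [h1, h2, hq2, h3]
  abel

/-- The alternating sum of the classes of the cokernels. -/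
theorem IsTower.sum_eq (hQ : KClosed Q)
    (T : IsTower G Z X Bd H i p k q w₁ w₂) (M : ℕ)
    (hH : ∀ n j, Q ((G.rightDerived j).obj (H n)))
    (hM : ∀ n j, M ≤ j → IsZero ((G.rightDerived (j + 1)).obj (H n)))
    (h : ℕ → KZero.K0sub Q) (h0 : h 0 = KZero.clSub Q ((G.rightDerived 0).obj (Z 0)))
    (h1 : ∀ n, h (n + 1) =
      KZero.clSub Q (cokernel ((G.rightDerived 0).map (p n) ≫ (G.rightDerived 0).map (k n)))) (L : ℕ) :
    ∑ n ∈ Finset.range (L + 1), (-1 : ℤ) ^ n • h n =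
      ∑ n ∈ Finset.range (L + 1), (-1 : ℤ) ^ n • chi G Q M (H n) + (-1 : ℤ) ^ L • chiP G Q M (Z L) := by
  induction L with
  | zero =>
    simp only [zero_add, Finset.range_one, Finset.sum_singleton, pow_zero, one_smul]
    obtain ⟨e⟩ := T.zero
    have hp := T.props hQ M hH hM 0
    have hQ0 : Q ((G.rightDerived 0).obj (Z 0)) := hQ.iso ((G.rightDerived 0).mapIso e.symm) (hH 0 0)
    have h2 : chi G Q M (H 0) = chi G Q M (Z 0) := by
      unfold chi
      refine Finset.sum_congr rfl fun j _ => ?_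
      rw [clSub_iso Q hQ.zero ((G.rightDerived j).mapIso e.symm) (hH 0 j)
        (hQ.iso ((G.rightDerived j).mapIso e.symm) (hH 0 j))]
    rw [h0, h2, chi_eq]
    abel
  | succ L ih =>
    rw [Finset.sum_range_succ, ih, Finset.sum_range_succ (n := L + 1), h1,
      (T.coker_class hQ M hH hM L).2]
    rw [pow_succ]
    module

theorem IsTower.sum_eq_chi (hQ : KClosed Q)
    (T : IsTower G Z X Bd H i p k q w₁ w₂) (M : ℕ)
    (hH : ∀ n j, Q ((G.rightDerived j).obj (H n)))
    (hM : ∀ n j, M ≤ j → IsZero ((G.rightDerived (j + 1)).obj (H n)))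
    (h : ℕ → KZero.K0sub Q) (h0 : h 0 = KZero.clSub Q ((G.rightDerived 0).obj (Z 0)))
    (h1 : ∀ n, h (n + 1) =
      KZero.clSub Q (cokernel ((G.rightDerived 0).map (p n) ≫ (G.rightDerived 0).map (k n))))
    (N : ℕ) (hN : ∀ n, N < n → IsZero (H n)) (L : ℕ) (hL : N + M ≤ L) :
    ∑ n ∈ Finset.range (L + 1), (-1 : ℤ) ^ n • h n =
      ∑ n ∈ Finset.range (N + 1), (-1 : ℤ) ^ n • chi G Q M (H n) := by
  rw [T.sum_eq hQ M hH hM h h0 h1 L]
  have e1 : chiP G Q M (Z L) = 0 := by
    obtain ⟨m, rfl⟩ : ∃ m, L = N + m := ⟨L - N, by omega⟩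
    unfold chiP
    refine Finset.sum_eq_zero fun j _ => ?_
    rw [clSub_zero Q (T.vanish hQ M hH hM N hN m j (by omega)), smul_zero]
  have e2 : ∀ n, N < n → chi G Q M (H n) = 0 := by
    intro n hn
    unfold chi
    refine Finset.sum_eq_zero fun j _ => ?_
    have : IsZero ((G.rightDerived j).obj (H n)) :=
      isZero_rightDerived G (hN n hn) j
    rw [clSub_zero Q this, smul_zero]
  rw [e1, smul_zero, add_zero]
  symm
  refine Finset.sum_subset (fun n hn => ?_) (fun n _ hn => ?_)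
  · rw [Finset.mem_range] at hn ⊢
    omega
  · rw [Finset.mem_range] at hn
    rw [e2 n (by omega), smul_zero]

end K570.Tower
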