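import Groth.Agent.IntSh.K570.DivCls
import Groth.Agent.IntSh.K570.ProjF
import Groth.Agent.IntSh.K570.Tower

/-!
# The determinant map `det-hat : K_•(X) → Ref¹(X)`

* `dh_clc` : `det-hat [F] = cls F` for `F` reflexive of rank one;
* `mem_coniv_two` : a class in `coniv 1` killed by `det-hat` is in `coniv 2`;
* `dh_one_sub` : `det-hat ((1 - [M']) ζ) = rk ζ • cls M`.
-/

set_option autoImplicit false
set_option linter.unusedSectionVars false
universe u
open CategoryTheory CategoryTheory.Limits AlgebraicGeometry TopologicalSpace Opposite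

namespace K570.DetHat

open RefHull Groth.Agent.CycB Groth.Agent.CycB.ModStalk
  Groth.Agent.CycB.StalkExact K475.GenStalk K475.Rank1
  K475.Ref1Ord K475.OrdEta K475.Rep K570.RefCls K878.KSup Groth.Agent
  K476.HomSh3 K476.HomSh4 K476.TensStalk K570.DivCls

variable {X : Scheme.{u}} [IsIntegral X] [IsNoetherian X] {F G : X.Modules}

/-! ### The dual of the ideal of a prime divisor -/

/-- The dual of a torsion free module of rank one has opposite divisor. -/
theorem rep_dual (hX : Pi1.IsNormalScheme X) {D : X → ℤ} (hF' : R1 F) (hg : GenInvertible F)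
    {v : F.presheaf.stalk (η X)} (hv : v ≠ 0)
    (hvD : ∀ x : X, Order.coheight x = 1 → sord F x v = D x) :
    Rep (RefHull.dual F) (fun x => - D x) := by
  have hT : IsRef1 (RefHull.dual F) := K476.Ref1.isRef1_dual hF'.coh hg
  have hT' := R1.of_isRef1 hT
  have hgv := hF'.isGen_of_ne_zero hv
  obtain ⟨u, hu, huv⟩ := exists_dual_gen hF'.coh hgv
  refine ⟨hT, u, K475.Rank1.IsGen.ne_zero hu, fun x hx => ?_⟩
  obtain ⟨t, ht⟩ := hF'.exists_isGen hX hx
  obtain ⟨θ, hθ, hθt⟩ := exists_dual_gen hF'.coh ht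
  obtain ⟨a, rfl⟩ := (hF'.isGen_spec ht).2 v
  obtain ⟨b, rfl⟩ := (hT'.isGen_spec hθ).2 u
  have ha : a ≠ 0 := by
    rintro rfl
    exact hv (zero_smul _ _)
  have hb : b ≠ 0 := by
    rintro rfl
    exact K475.Rank1.IsGen.ne_zero hu (zero_smul _ _)
  have h1 := hvD x hx
  simp only at h1 huv ⊢
  rw [hF'.sord_smul_gen hx ht _ ha] at h1
  rw [map_smul, map_smul, LinearMap.smul_apply, evalStalk_spec, hθt,
    stalkSpecializes_unitGerm, smul_smul, mul_comm] at huv
  have h2 : b * a = 1 := (isGen_unitGerm (η X)).1 (huv.trans (one_smul _ _).symm)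
  rw [hT'.sord_smul_gen hx hθ _ hb]
  have h3 : Scheme.ord (X := X) (b * a : X.functionField) x = 0 := by
    have h4 : (b * a : X.functionField) = 1 := h2
    rw [h4]
    exact Groth.Agent.Ega4dB.CDivUFD.ord_one x
  have h5 : Scheme.ord (X := X) (b * a : X.functionField) x =
      Scheme.ord (X := X) b x + Scheme.ord (X := X) a x := Scheme.ord_mul (X := X) hb ha
  omega

theorem genInvertible_idealMod {x : X} (hx : x ≠ genericPoint X) :
    GenInvertible (ClSub.idealMod (IntMult.ptIdeal x)) := by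
  let U : X.Opens := ⟨(closure {x})ᶜ, isClosed_closure.isOpen_compl⟩
  have hU : ∀ z ∈ U, ¬ x ⤳ z := fun z hz hxz => hz (specializes_iff_mem_closure.mp hxz)
  refine ⟨U, ?_, ?_⟩
  · have h1 : genericPoint X ∈ U := by
      intro h
      exact hx ((specializes_iff_mem_closure.mpr h).antisymm (genericPoint_specializes x)).eq
    exact U.2.dense ⟨_, h1⟩
  · obtain ⟨e⟩ := K878.DetLoc.nonempty_restrict_idealMod x U hU
    exact K476.HomSh6.isInvertible_of_iso e.symm
      (fun _ => ⟨⊤, trivial, ⟨Scheme.Modules.restrictUnitIso _⟩⟩)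

theorem inj_of_mono (φ : F ⟶ G) [Mono φ] (hG : Inj G) : Inj F := by
  intro x a b hab
  apply stalkLin_injective φ x
  rw [← K476.HomSh1.stalkMapₗ_eq]
  apply hG x
  rw [← stalkMapₗ_spec φ (spec x) a, ← stalkMapₗ_spec φ (spec x) b, hab]

theorem r1_idealMod {x : X} (hx : x ≠ genericPoint X) :
    R1 (ClSub.idealMod (IntMult.ptIdeal x)) := by
  have hm := CohqA.IdealMod.mono_idealModι (IntMult.ptIdeal x)
  exact ⟨K878.DetLoc.isCoh_idealMod _,
    inj_of_mono (ClSub.idealModι (IntMult.ptIdeal x))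
      (R1.of_isRef1 (K476.Ref1.isRef1_structureModule (X := X))).inj,
    exists_isGen_of_genInvertible (genInvertible_idealMod hx)⟩

open Classical in
/-- The divisor of the dual of the ideal of a prime divisor. -/
theorem rep_primeDivisor (hX : Pi1.IsNormalScheme X) {x : X} (hx : Order.coheight x = 1) :
    Rep (RefHull.dual (ClSub.idealMod (IntMult.ptIdeal x))) (fun y => if y = x then 1 else 0) := by
  have hxη : x ≠ genericPoint X := by
    rintro rfl
    exact K475.DivRef1.coheight_eta_ne hx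
  have hm := CohqA.IdealMod.mono_idealModι (IntMult.ptIdeal x)
  have hI := r1_idealMod hxη
  have hO' := R1.of_isRef1 (K476.Ref1.isRef1_structureModule (X := X))
  set ι := ClSub.idealModι (IntMult.ptIdeal x) with hι
  have hlen : ∀ y, Module.length (X.presheaf.stalk y) ((cokernel ι).presheaf.stalk y) =
      Module.length (X.presheaf.stalk y) ((Cyc.closureStructureSheaf x).presheaf.stalk y) := by
    intro y
    have hS := K272.Ext1.shortExact_idealMod (IntMult.ptIdeal x)
    have hep := hS.epi_g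
    obtain ⟨e⟩ := Tower.cokernel_iso_of_exact_epi ι (ClSub.toSubscheme (IntMult.ptIdeal x))
      (kernel.condition _) hS.exact
    exact (stalkLinEquiv (N := Cyc.closureStructureSheaf x) e y).length_eq
  -- a section of the ideal
  obtain ⟨s, hs⟩ := hI.gen
  have h1 : stalkMapₗ ι (η X) s ≠ 0 := by
    rw [K476.HomSh1.stalkMapₗ_eq]
    exact fun h => K475.Rank1.IsGen.ne_zero hs (stalkLin_injective ι _ (h.trans (map_zero _).symm))
  obtain ⟨a, ha⟩ := (hO'.isGen_of_ne_zero h1).2 (unitGerm (η X))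
  simp only at ha
  have ha0 : a ≠ 0 := by
    rintro rfl
    rw [zero_smul] at ha
    exact K475.Rank1.IsGen.ne_zero (isGen_unitGerm (η X)) ha.symm
  have hv : a • s ≠ 0 := hI.smul_ne_zero (K475.Rank1.IsGen.ne_zero hs) ha0
  have hvu : stalkMapₗ ι (η X) (a • s) = unitGerm (η X) := by
    rw [map_smul, ha]
  have key : ∀ y : X, Order.coheight y = 1 →
      sord (ClSub.idealMod (IntMult.ptIdeal x)) y (a • s) = - (if y = x then 1 else 0 : ℤ) := by
    intro y hy
    have h2 := sord_map_eq hX hI hO' ι hy hv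
    rw [hvu, rep_unit y hy, hlen] at h2
    by_cases hyx : y = x
    · subst hyx
      rw [ClosSheaf.length_stalk_self] at h2
      rw [if_pos rfl]
      simp at h2
      omega
    · have h3 : y ∉ CohB1.support (Cyc.closureStructureSheaf x) := by
        rw [K233.LenK0.support_closureStructureSheaf]
        intro h
        have h4 := IntSh.K877.Pts.dim_lt (specializes_iff_mem_closure.mpr h) (Ne.symm hyx)
        rw [dim_of_coheight hx, dim_of_coheight hy] at h4
        exact lt_irrefl _ h4
      rw [Groth.Agent.CohqB.DevSupport.not_mem_support_iff] at h3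
      have h5 : Module.length (X.presheaf.stalk y)
          ((Cyc.closureStructureSheaf x).presheaf.stalk y) = 0 := Module.length_eq_zero
      rw [h5] at h2
      rw [if_neg hyx]
      simp at h2
      omega
  have h6 := rep_dual hX hI (genInvertible_idealMod hxη) hv key
  simpa using h6

/-! ### The group of divisor classes -/

section law

variable [RefFun.Law X]

/-- `c` is the class of a module with divisor `D`. -/
def IsClsOf (D : X → ℤ) (c : RefFun.Ref1Set X) : Prop :=
  ∃ (F : X.Modules) (hF : IsRef1 F), Rep F D ∧ c = RefFun.cls F hF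

theorem isClsOf_congr {D E : X → ℤ} {c : RefFun.Ref1Set X} (h : IsClsOf D c)
    (hDE : ∀ x, Order.coheight x = 1 → D x = E x) : IsClsOf E c := by
  obtain ⟨F, hF, ⟨h1, v, hv, hvD⟩, rfl⟩ := h
  exact ⟨F, hF, ⟨h1, v, hv, fun x hx => (hvD x hx).trans (hDE x hx)⟩, rfl⟩

theorem IsClsOf.unique (hX : Pi1.IsNormalScheme X) {D : X → ℤ} {c c' : RefFun.Ref1Set X}
    (h : IsClsOf D c) (h' : IsClsOf D c') : c = c' := by
  obtain ⟨F, hF, h1, rfl⟩ := h
  obtain ⟨G, hG, h2, rfl⟩ := h'
  exact (RefFun.cls_eq_cls_iff hF hG).mpr (h1.iso hX h2 fun _ _ => rfl)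

theorem isClsOf_zero : IsClsOf (X := X) (fun _ => 0) 1 := by
  have hO := K476.Ref1.isRef1_structureModule (X := X)
  exact ⟨_, hO, rep_structureModule, ((RefFun.cls_eq_one_iff hO).mpr ⟨Iso.refl _⟩).symm⟩

theorem IsClsOf.mul (hX : Pi1.IsNormalScheme X) {D E : X → ℤ} {c c' : RefFun.Ref1Set X}
    (h : IsClsOf D c) (h' : IsClsOf E c') : IsClsOf (fun x => D x + E x) (c * c') := by
  obtain ⟨F, hF, h1, rfl⟩ := h
  obtain ⟨G, hG, h2, rfl⟩ := h'
  have h3 := h1.tensor hX h2
  refine ⟨_, h3.1, h3, ?_⟩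
  apply Subtype.ext
  rw [RefFun.cls_mul_cls_val]
  rfl

theorem IsClsOf.inv (hX : Pi1.IsNormalScheme X) {D : X → ℤ} {c : RefFun.Ref1Set X}
    (h : IsClsOf D c) : IsClsOf (fun x => - D x) c⁻¹ := by
  obtain ⟨F, hF, h1, rfl⟩ := h
  have h2 := h1.dual hX
  refine ⟨_, h2.1, h2, ?_⟩
  apply RefFun.cls_inv_eq_cls
  exact (h1.tensor hX h2).iso hX rep_structureModule fun x _ => by simp

theorem IsClsOf.zpow (hX : Pi1.IsNormalScheme X) {D : X → ℤ} {c : RefFun.Ref1Set X}
    (h : IsClsOf D c) (n : ℤ) : IsClsOf (fun x => n * D x) (c ^ n) := by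
  induction n with
  | zero =>
    rw [zpow_zero]
    exact isClsOf_congr isClsOf_zero fun x _ => by simp
  | succ n ih =>
    rw [zpow_add_one]
    exact isClsOf_congr (ih.mul hX h) fun x _ => by ring
  | pred n ih =>
    rw [zpow_sub_one]
    exact isClsOf_congr (ih.mul hX (h.inv hX)) fun x _ => by ring

theorem isClsOf_cls {F : X.Modules} (hF : IsRef1 F) {D : X → ℤ} (h : Rep F D) :
    IsClsOf D (RefFun.cls F hF) := ⟨F, hF, h, rfl⟩

variable {dh : SGA6.Kcoh X →+ Additive (RefFun.Ref1Set X)}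

/-- `det-hat` of a divisor class. -/
theorem isClsOf_dh (hX : Pi1.IsNormalScheme X) (hdh : KDet.IsDetHat X dh) (D : X →₀ ℤ)
    (hD : OneSupp D) : IsClsOf D (dh (divHom X D)).toMul := by
  classical
  induction D using Finsupp.induction with
  | zero =>
    rw [map_zero, map_zero]
    exact isClsOf_congr isClsOf_zero fun x _ => by simp
  | single_add a b f ha hb ih =>
    have hs : (Finsupp.single a b + f).support = insert a f.support := by
      rw [Finsupp.support_single_add ha hb, Finset.cons_eq_insert]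
    have hf : OneSupp f := fun x hx => hD x (by rw [hs]; exact Finset.mem_insert_of_mem hx)
    have ha1 : ringKrullDim (X.presheaf.stalk a) = 1 :=
      hD a (by rw [hs]; exact Finset.mem_insert_self _ _)
    have h1 := rep_primeDivisor hX (coheight_of_dim ha1)
    have h2 := hdh.map_primeDivisor a ha1 h1.1
    have h3 : IsClsOf (fun y => if y = a then 1 else 0)
        (dh (KDet.clc X (Cyc.closureStructureSheaf a))).toMul := by
      rw [h2]
      exact isClsOf_cls h1.1 h1
    have h4 : (dh (divHom X (Finsupp.single a b + f))).toMul =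
        (dh (KDet.clc X (Cyc.closureStructureSheaf a))).toMul ^ b * (dh (divHom X f)).toMul := by
      rw [map_add, map_add, divHom_single, map_zsmul]
      rfl
    rw [h4]
    refine isClsOf_congr ((h3.zpow hX b).mul hX (ih hf)) fun x _ => ?_
    rw [Finsupp.add_apply, Finsupp.single_apply]
    by_cases hxa : x = a
    · subst hxa
      simp
    · rw [if_neg hxa, if_neg (Ne.symm hxa), mul_zero]

/-- `det-hat [F] = cls F` for `F` reflexive of rank one. -/
theorem dh_clc (hX : Pi1.IsNormalScheme X) (hdh : KDet.IsDetHat X dh) (hF : IsRef1 F) :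
    dh (KDet.clc X F) = Additive.ofMul (RefFun.cls F hF) := by
  obtain ⟨v, hv⟩ : ∃ v : F.presheaf.stalk (η X), v ≠ 0 := by
    obtain ⟨t, ht⟩ := exists_isGen_of_genInvertible hF.2.2
    exact ⟨t, K475.Rank1.IsGen.ne_zero ht⟩
  obtain ⟨D, hD1, hD2, hD3⟩ := exists_div hX hF hv
  have h1 := hdh.map_coniv_two _ hD3
  rw [map_sub, map_sub, hdh.map_structureSheaf, sub_zero, sub_eq_zero] at h1
  rw [h1]
  exact (isClsOf_dh hX hdh D hD1).unique hX (isClsOf_cls hF ⟨hF, v, hv, hD2⟩)

/-- A divisor killed by `det-hat` is principal. -/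
theorem exists_principal (hX : Pi1.IsNormalScheme X) (hdh : KDet.IsDetHat X dh) {D : X →₀ ℤ}
    (hD : OneSupp D) (h0 : dh (divHom X D) = 0) :
    ∃ f : X.functionField, f ≠ 0 ∧ ∀ x : X, Order.coheight x = 1 → D x = Scheme.ord f x := by
  obtain ⟨F, hF, ⟨-, v, hv, hvD⟩, h1⟩ := isClsOf_dh hX hdh D hD
  rw [h0] at h1
  obtain ⟨e⟩ := (RefFun.cls_eq_one_iff hF).mp h1.symm
  have hO' := R1.of_isRef1 (K476.Ref1.isRef1_structureModule (X := X))
  have hb := fun x => bijective_stalkMapₗ_of_isIso e.hom x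
  obtain ⟨f, hf⟩ := (isGen_unitGerm (η X)).2 (stalkMapₗ e.hom (η X) v)
  simp only at hf
  have hf0 : f ≠ 0 := by
    rintro rfl
    rw [zero_smul] at hf
    exact hv ((hb _).1 (hf.symm.trans (map_zero _).symm))
  refine ⟨f, hf0, fun x hx => ?_⟩
  have h2 := (R1.of_isRef1 hF).sord_map hO' hX hx e.hom (hb x) hv
  rw [← hf, hO'.sord_smul hX hx (K475.Rank1.IsGen.ne_zero (isGen_unitGerm _)) hf0, rep_unit x hx,
    add_zero, hvD x hx] at h2
  exact h2.symm

end law

/-! ### Classes in `coniv 1` -/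

/-- A class supported in codimension one is, modulo codimension two, the class of a divisor. -/
theorem exists_divHom {ζ : SGA6.Kcoh X} (hζ : ζ ∈ KDet.coniv X 1) :
    ∃ D : X →₀ ℤ, OneSupp D ∧ ζ - divHom X D ∈ KDet.coniv X 2 := by
  refine AddSubgroup.closure_induction (p := fun ζ _ => ∃ D : X →₀ ℤ, OneSupp D ∧
    ζ - divHom X D ∈ KDet.coniv X 2) ?_ ?_ ?_ ?_ hζ
  · rintro c ⟨F, hF, hsupp, rfl⟩
    obtain ⟨m, hm, hcl, -⟩ := IntSh.K877.Dev.exists_devissage
      {x : X | (2 : WithBot ℕ∞) ≤ ringKrullDim (X.presheaf.stalk x)}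
      {x : X | (1 : WithBot ℕ∞) ≤ ringKrullDim (X.presheaf.stalk x)}
      (fun x hx z hxz => le_trans hx (IntSh.K877.Pts.dim_mono hxz)) (fun x hx _ z hxz hzx => by
        have h2 := IntSh.K877.Pts.dim_add_one_le hxz hzx.symm
        refine le_trans ?_ h2
        have := add_le_add_left hx (1 : WithBot ℕ∞)
        refine le_trans (le_of_eq ?_) this
        norm_num) F hF (fun x hx => by
          have := hsupp x hx
          exact_mod_cast this)
    let f : ℕ →+ ℤ := Nat.castAddMonoidHom ℤ
    refine ⟨m.mapRange f (map_zero f), ?_, ?_⟩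
    · intro x hx
      have hx' : m x ≠ 0 := by
        intro h
        apply Finsupp.mem_support_iff.1 hx
        rw [Finsupp.mapRange_apply, h, map_zero]
      obtain ⟨h2, h3⟩ := hm x hx'
      refine K878.DetLoc.dim_eq_one (fun h => ?_) h3
      subst h
      have h4 : ringKrullDim (X.presheaf.stalk (genericPoint X)) = 0 :=
        (IntSh.K877.Pts.dim_eq_zero_iff _).2
          fun y hy => (hy.antisymm (genericPoint_specializes y)).eq
      have h2' : (1 : WithBot ℕ∞) ≤ ringKrullDim (X.presheaf.stalk (genericPoint X)) := h2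
      rw [h4] at h2'
      exact absurd h2' (by decide)
    · have h3 : divHom X (m.mapRange f (map_zero f)) =
          m.sum (fun x n => n • IntSh.K877.Dev.cl (Cyc.closureStructureSheaf x)) := by
        rw [divHom_apply, Finsupp.sum_mapRange_index (by simp)]
        refine Finsupp.sum_congr fun x _ => ?_
        exact natCast_zsmul _ _
      rw [h3]
      exact hcl
  · refine ⟨0, fun x hx => absurd hx (by simp), ?_⟩
    rw [map_zero, sub_zero]
    exact zero_mem _
  · rintro a b _ _ ⟨D, h1, h2⟩ ⟨E, h3, h4⟩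
    refine ⟨D - (-E), h1.sub ?_, ?_⟩
    · intro x hx
      exact h3 x (by simpa using hx)
    · rw [map_sub, map_neg]
      have : a + b - (divHom X D - -divHom X E) = (a - divHom X D) + (b - divHom X E) := by abel
      rw [this]
      exact add_mem h2 h4
  · rintro a _ ⟨D, h1, h2⟩
    refine ⟨-D, fun x hx => h1 x (by simpa using hx), ?_⟩
    rw [map_neg]
    have : -a - -divHom X D = -(a - divHom X D) := by abel
    rw [this]
    exact neg_mem h2

/-- A class in `coniv 1` killed by `det-hat` is in `coniv 2`. -/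
theorem mem_coniv_two [RefFun.Law X] {dh : SGA6.Kcoh X →+ Additive (RefFun.Ref1Set X)}
    (hX : Pi1.IsNormalScheme X) (hdh : KDet.IsDetHat X dh) {ζ : SGA6.Kcoh X}
    (hζ : ζ ∈ KDet.coniv X 1) (h0 : dh ζ = 0) : ζ ∈ KDet.coniv X 2 := by
  obtain ⟨D, hD1, hD2⟩ := exists_divHom hζ
  have h1 := hdh.map_coniv_two _ hD2
  rw [map_sub, h0, zero_sub, neg_eq_zero] at h1
  obtain ⟨f, hf, hfD⟩ := exists_principal hX hdh hD1 h1
  have h2 := divHom_mem_of_principal hX hD1 hf hfD
  have := add_mem hD2 h2
  rwa [sub_add_cancel] at this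

end K570.DetHat
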