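import Groth.Agent.IntSh.K570.RefCls
import Groth.Agent.IntSh.K879.CapDrop

/-!
# The class of a rank one reflexive module modulo codimension two, in terms of divisors
-/

set_option autoImplicit false
set_option linter.unusedSectionVars false
universe u
open CategoryTheory CategoryTheory.Limits AlgebraicGeometry TopologicalSpace Opposite

namespace K570.DivCls

open RefHull Groth.Agent.CycB Groth.Agent.CycB.ModStalk
  Groth.Agent.CycB.StalkExact K475.GenStalk K475.Rank1
  K475.Ref1Ord K475.OrdEta K475.Rep K570.RefCls K878.KSup Groth.Agent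
  K476.HomSh3 K476.HomSh4 K476.TensStalk

variable {X : Scheme.{u}} [IsIntegral X] [IsNoetherian X] {F G : X.Modules}

/-- Supported on points of codimension one. -/
def OneSupp (D : X →₀ ℤ) : Prop := ∀ x ∈ D.support, ringKrullDim (X.presheaf.stalk x) = 1

variable (X) in
/-- `D ↦ Σ D(x) [O_x̄]` -/
noncomputable def divHom : (X →₀ ℤ) →+ SGA6.Kcoh X :=
  Finsupp.liftAddHom fun x => (zmultiplesHom _ (KDet.clc X (Cyc.closureStructureSheaf x)))

theorem divHom_apply (D : X →₀ ℤ) :
    divHom X D = D.sum fun x n => n • KDet.clc X (Cyc.closureStructureSheaf x) := rfl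

theorem divHom_single (x : X) (n : ℤ) :
    divHom X (Finsupp.single x n) = n • KDet.clc X (Cyc.closureStructureSheaf x) := by
  rw [divHom_apply]
  exact Finsupp.sum_single_index (zero_smul _ _)

theorem OneSupp.sub {D E : X →₀ ℤ} (hD : OneSupp D) (hE : OneSupp E) : OneSupp (D - E) := by
  classical
  intro x hx
  have := Finsupp.support_sub hx
  rcases Finset.mem_union.1 this with h | h
  · exact hD x h
  · exact hE x h

theorem one_le_dim {x : X} (hx : x ≠ genericPoint X) :
    (1 : WithBot ℕ∞) ≤ ringKrullDim (X.presheaf.stalk x) := by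
  have h1 := IntSh.K877.Pts.dim_add_one_le (genericPoint_specializes x) hx.symm
  have h2 := IntSh.K877.Pts.dim_nonneg (genericPoint X)
  refine le_trans ?_ h1
  have := add_le_add_left h2 1
  simp at this ⊢

/-- The generic point is not in the support of the cokernel of a monomorphism of rank one modules. -/
theorem eta_notMem_support (hF : R1 F) (hG : R1 G) (φ : F ⟶ G) [Mono φ] :
    genericPoint X ∉ CohB1.support (cokernel φ) := by
  rw [Groth.Agent.CohqB.DevSupport.not_mem_support_iff]
  obtain ⟨s, hs⟩ := hF.gen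
  have h1 : stalkLin φ (η X) s ≠ 0 := fun h =>
    K475.Rank1.IsGen.ne_zero hs (stalkLin_injective φ _ (h.trans (map_zero _).symm))
  have h2 := hG.isGen_of_ne_zero h1
  have hex : Function.Exact (stalkLin φ (η X)) (stalkLin (cokernel.π φ) (η X)) :=
    stalkLin_exact (ShortComplex.mk φ (cokernel.π φ) (cokernel.condition φ))
      (ShortComplex.exact_of_g_is_cokernel _ (cokernelIsCokernel φ)) _
  have h3 : ∀ m : (cokernel φ).presheaf.stalk (η X), m = 0 := by
    intro m
    obtain ⟨n, rfl⟩ := stalkLin_surjective (cokernel.π φ) _ m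
    obtain ⟨a, rfl⟩ := h2.2 n
    exact (hex _).2 ⟨a • s, by rw [map_smul]⟩
  exact ⟨fun a b => by rw [h3 a, h3 b]⟩

/-- The class of the cokernel of a monomorphism of rank one modules. -/
theorem exists_div_of_mono (hX : Pi1.IsNormalScheme X) (hF : R1 F) (hG : R1 G) (φ : F ⟶ G) [Mono φ] :
    ∃ m : X →₀ ℤ, OneSupp m ∧ KDet.clc X G - KDet.clc X F - divHom X m ∈ KDet.coniv X 2 ∧
      ∀ x : X, Order.coheight x = 1 → ∀ v : F.presheaf.stalk (η X), v ≠ 0 →
        sord G x (stalkMapₗ φ (η X) v) = sord F x v + m x := by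
  have hC : Coh.IsCoh (cokernel φ) := Sga67.CohBasic.isCoh_cokernel φ hF.coh.1 hG.coh
  have hsupp : CohB1.support (cokernel φ) ⊆
      {x : X | (1 : WithBot ℕ∞) ≤ ringKrullDim (X.presheaf.stalk x)} := by
    intro x hx
    refine one_le_dim fun h => ?_
    subst h
    exact eta_notMem_support hF hG φ hx
  obtain ⟨m, hm, hcl, hlen⟩ := IntSh.K877.Dev.exists_devissage
    {x : X | (2 : WithBot ℕ∞) ≤ ringKrullDim (X.presheaf.stalk x)}
    {x : X | (1 : WithBot ℕ∞) ≤ ringKrullDim (X.presheaf.stalk x)}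
    (fun x hx z hxz => le_trans hx (IntSh.K877.Pts.dim_mono hxz)) (fun x hx _ z hxz hzx => by
      have h2 := IntSh.K877.Pts.dim_add_one_le hxz hzx.symm
      refine le_trans ?_ h2
      have := add_le_add_left hx (1 : WithBot ℕ∞)
      refine le_trans (le_of_eq ?_) this
      norm_num) (cokernel φ) hC hsupp
  have hS : (ShortComplex.mk φ (cokernel.π φ) (cokernel.condition φ)).ShortExact :=
    { exact := ShortComplex.exact_of_g_is_cokernel _ (cokernelIsCokernel φ) }
  have h1 := clc_shortExact hS hF.coh hG.coh hC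
  let f : ℕ →+ ℤ := Nat.castAddMonoidHom ℤ
  refine ⟨m.mapRange f (map_zero f), ?_, ?_, ?_⟩
  · intro x hx
    have hx' : m x ≠ 0 := by
      intro h
      apply Finsupp.mem_support_iff.1 hx
      rw [Finsupp.mapRange_apply, h, map_zero]
    obtain ⟨h2, h3⟩ := hm x hx'
    refine K878.DetLoc.dim_eq_one (fun h => ?_) h3
    subst h
    have h4 : ringKrullDim (X.presheaf.stalk (genericPoint X)) = 0 :=
      (IntSh.K877.Pts.dim_eq_zero_iff _).2 fun y hy => (hy.antisymm (genericPoint_specializes y)).eq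
    have h2' : (1 : WithBot ℕ∞) ≤ ringKrullDim (X.presheaf.stalk (genericPoint X)) := h2
    rw [h4] at h2'
    exact absurd h2' (by decide)
  · have h2 : KDet.clc X G - KDet.clc X F = KDet.clc X (cokernel φ) := by
      rw [show KDet.clc X G = _ from h1]
      exact add_sub_cancel_left _ _
    have h3 : divHom X (m.mapRange f (map_zero f)) =
        m.sum (fun x n => n • IntSh.K877.Dev.cl (Cyc.closureStructureSheaf x)) := by
      rw [divHom_apply, Finsupp.sum_mapRange_index (by simp)]
      refine Finsupp.sum_congr fun x _ => ?_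
      exact natCast_zsmul _ _
    rw [h2, h3]
    exact hcl
  · intro x hx v hv
    rw [sord_map_eq hX hF hG φ hx hv, Finsupp.mapRange_apply]
    have hd := dim_of_coheight hx
    have h3 := hlen x (by
      change (1 : WithBot ℕ∞) ≤ _
      rw [hd]) (by
      intro h
      have h' : (2 : WithBot ℕ∞) ≤ ringKrullDim (X.presheaf.stalk x) := h
      rw [hd] at h'
      exact absurd h' (by decide))
    rw [h3]
    rfl

theorem rep_unit (x : X) (hx : Order.coheight x = 1) :
    sord (Coh.structureModule X) x (unitGerm (η X)) = 0 := by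
  have h := K476.Ref1.isRef1_structureModule (X := X)
  have h1 := (R1.of_isRef1 h).sord_smul_gen hx (isGen_unitGerm x) 1 one_ne_zero
  rw [one_smul, stalkSpecializes_unitGerm] at h1
  rw [h1]
  exact Groth.Agent.Ega4dB.CDivUFD.ord_one x

/-- The class of a rank one reflexive module. -/
theorem exists_div (hX : Pi1.IsNormalScheme X) (hF : IsRef1 F) {v : F.presheaf.stalk (η X)}
    (hv : v ≠ 0) :
    ∃ D : X →₀ ℤ, OneSupp D ∧ (∀ x : X, Order.coheight x = 1 → sord F x v = D x) ∧
      KDet.clc X F - KDet.clc X (Coh.structureModule X) - divHom X D ∈ KDet.coniv X 2 := by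
  obtain ⟨D₀, -, hD₀⟩ := K475.Ref1Div.exists_cycle (R1.of_isRef1 hF) hv
  let E : X → ℤ := fun x => min (D₀ x) 0
  have hE : LocallyFiniteSupport E := by
    intro z
    obtain ⟨t, ht, hfin⟩ := D₀.supportLocallyFiniteWithinDomain' z trivial
    refine ⟨t, ht, hfin.subset ?_⟩
    rintro x ⟨h1, h2⟩
    refine ⟨h1, fun h3 => h2 ?_⟩
    have h3' : D₀ x = 0 := h3
    change min (D₀ x) 0 = 0
    rw [h3', min_self]
  have hRE := K475.DivRef1.isRef1 hX hE
  obtain ⟨t, ht, hto⟩ := K475.DivRef1.exists_section hX hE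
  have hO := K476.Ref1.isRef1_structureModule (X := X)
  have hu : (unitGerm (η X) : (Coh.structureModule X).presheaf.stalk (η X)) ≠ 0 :=
    K475.Rank1.IsGen.ne_zero (isGen_unitGerm _)
  obtain ⟨φ, hφ, hφt⟩ := exists_mono hX (R1.of_isRef1 hRE) hF.1 hF.2.1 (R1.of_isRef1 hF) ht hv
    (fun x hx => by
      rw [hto x hx, ← hD₀ x hx]
      exact min_le_left _ _)
  obtain ⟨ψ, hψ, hψt⟩ := exists_mono hX (R1.of_isRef1 hRE) hO.1 hO.2.1 (R1.of_isRef1 hO) ht hu
    (fun x hx => by
      rw [hto x hx, rep_unit x hx]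
      exact min_le_right _ _)
  obtain ⟨m, hm1, hm2, hm3⟩ := exists_div_of_mono hX (R1.of_isRef1 hRE) (R1.of_isRef1 hF) φ
  obtain ⟨n, hn1, hn2, hn3⟩ := exists_div_of_mono hX (R1.of_isRef1 hRE) (R1.of_isRef1 hO) ψ
  refine ⟨m - n, hm1.sub hn1, fun x hx => ?_, ?_⟩
  · have h1 := hm3 x hx t ht
    have h2 := hn3 x hx t ht
    rw [hφt] at h1
    rw [hψt, rep_unit x hx] at h2
    rw [Finsupp.sub_apply, h1]
    omega
  · rw [map_sub]
    have : KDet.clc X F - KDet.clc X (Coh.structureModule X) - (divHom X m - divHom X n) =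
        (KDet.clc X F - KDet.clc X (K475.DivSheaf.O hX E) - divHom X m) -
          (KDet.clc X (Coh.structureModule X) - KDet.clc X (K475.DivSheaf.O hX E) - divHom X n) := by
      abel
    rw [this]
    exact sub_mem hm2 hn2

/-- Principal divisors. -/
theorem divHom_mem_of_principal (hX : Pi1.IsNormalScheme X) {D : X →₀ ℤ} (hD : OneSupp D)
    {f : X.functionField} (hf : f ≠ 0)
    (h : ∀ x : X, Order.coheight x = 1 → D x = Scheme.ord f x) : divHom X D ∈ KDet.coniv X 2 := by
  have hO := K476.Ref1.isRef1_structureModule (X := X)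
  have hu : (unitGerm (η X) : (Coh.structureModule X).presheaf.stalk (η X)) ≠ 0 :=
    K475.Rank1.IsGen.ne_zero (isGen_unitGerm _)
  have hO' := R1.of_isRef1 hO
  have hfu : f • (unitGerm (η X) : (Coh.structureModule X).presheaf.stalk (η X)) ≠ 0 :=
    hO'.smul_ne_zero hu hf
  obtain ⟨E, hE1, hE2, hE3⟩ := exists_div hX hO hfu
  have hDE : E = D := by
    ext x
    by_cases hx : Order.coheight x = 1
    · have h1 := hE2 x hx
      rw [hO'.sord_smul hX hx hu hf, rep_unit x hx, add_zero] at h1
      rw [← h1, h x hx]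
    · have h1 : x ∉ E.support := fun h' => hx (coheight_of_dim (hE1 x h'))
      have h2 : x ∉ D.support := fun h' => hx (coheight_of_dim (hD x h'))
      rw [Finsupp.notMem_support_iff.1 h1, Finsupp.notMem_support_iff.1 h2]
  subst hDE
  rw [sub_self, zero_sub] at hE3
  exact neg_mem_iff.1 hE3

end K570.DivCls
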