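import Groth.Agent.IntSh.K570.TwoLevel
import Groth.Agent.IntSh.K935.DimFil

/-!
# The filtration theorem for the functions `D f`
-/

set_option autoImplicit false
universe v u
open CategoryTheory CategoryTheory.Limits AlgebraicGeometry TopologicalSpace

namespace K570.Lowers

open K570.RelDimFn K570.TwoLevel K878.KSup K935.DimFil

variable {X S : Scheme.{u}}

theorem isDim (f : X ⟶ S) [LocallyOfFiniteType f] [AlgebraicGeometry.IsLocallyNoetherian S] :
    IsDim (∅ : Set X) (D f) where
  stable := fun _ _ _ hx => absurd hx (Set.notMem_empty _)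
  lt := fun _ _ h hne _ => D_lt f h hne

theorem lowers (f : X ⟶ S) [LocallyOfFiniteType f] [AlgebraicGeometry.IsLocallyNoetherian S]
    [AlgebraicGeometry.IsNoetherian X] [ConnectedSpace X]
    {KX : Type v} [CommRing KX] [LambdaRing.LambdaOps KX] {PX : LambdaRing.PosStructure KX}
    {φX : SGA6.Kvb X →+ KX} (hKX : KRR.IsModel X KX PX φX)
    {μ : KX →+ SGA6.Kcoh X →+ SGA6.Kcoh X} (hμ : KDet.IsCap φX μ) : Lowers f PX μ := by
  intro n m x ξ hx hξ
  have h1 : ∀ m : ℤ, Low (∅ : Set X) (D f) m = {x | D f x ≤ m} := by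
    intro m
    ext x
    simp [Low]
  unfold Fil at hξ ⊢
  rw [← h1] at hξ ⊢
  exact gammaFiltration_mem (isDim f) hKX hμ hx hξ

end K570.Lowers
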