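import Groth.Agent.SDiv.K475.Rep
import Groth.Agent.SDiv.K475.DivRef1
import Groth.Agent.IntSh.K878.DetLoc
import Groth.Agent.PerfC.FlatExact
import Groth.Agent.ProjDual.K272.Ext1

/-!
# Classes in `K_•(X)` of rank one reflexive modules on a normal Noetherian integral scheme
-/

set_option autoImplicit false
universe u
open CategoryTheory CategoryTheory.Limits AlgebraicGeometry TopologicalSpace Opposite

namespace K570.RefCls

open RefHull Groth.Agent.CycB Groth.Agent.CycB.ModStalk Groth.Agent.CycB.C1Basic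
  Groth.Agent.CycB.StalkExact K475.GenStalk K475.Rank1
  K475.Ref1Ord K475.OrdEta K475.Rep K475.Codim1Ring

section local_

variable {X : Scheme.{u}} [IsIntegral X] [IsLocallyNoetherian X] {F G : X.Modules}

theorem ord_spec_eq_length {x : X} (hx : Order.coheight x = 1) {b : X.presheaf.stalk x} (hb : b ≠ 0) :
    Scheme.ord (X.presheaf.stalkSpecializes (spec x) b : X.functionField) x =
      ((Module.length (X.presheaf.stalk x) (X.presheaf.stalk x ⧸ Ideal.span {b})).toNat : ℤ) := by
  have h1 : Ring.KrullDimLE 1 (X.presheaf.stalk x) := krullDimLE_of_coheight_le hx.le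
  rw [← cycOrdFrac_eq_ord hx]
  exact Groth.Agent.CycB.OrdFrac.ordFrac_algebraMap' (X.presheaf.stalk x) X.functionField hb

omit [IsIntegral X] [IsLocallyNoetherian X] in
theorem length_coker (φ : F ⟶ G) {x : X} {s : F.presheaf.stalk x} (hs : IsGen F x s)
    {t : G.presheaf.stalk x} (ht : IsGen G x t) {b : X.presheaf.stalk x}
    (h : stalkMapₗ φ x s = b • t) :
    Module.length (X.presheaf.stalk x) ((cokernel φ).presheaf.stalk x) =
      Module.length (X.presheaf.stalk x) (X.presheaf.stalk x ⧸ Ideal.span {b}) := by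
  let f : X.presheaf.stalk x →ₗ[X.presheaf.stalk x] (cokernel φ).presheaf.stalk x :=
    (stalkLin (cokernel.π φ) x).comp (LinearMap.toSpanSingleton _ _ t)
  have hf : ∀ a, f a = stalkLin (cokernel.π φ) x (a • t) := fun a => rfl
  have hex : Function.Exact (stalkLin φ x) (stalkLin (cokernel.π φ) x) :=
    stalkLin_exact (ShortComplex.mk φ (cokernel.π φ) (cokernel.condition φ))
      (ShortComplex.exact_of_g_is_cokernel _ (cokernelIsCokernel φ)) _
  have hsurj : Function.Surjective f := by
    intro m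
    obtain ⟨n, rfl⟩ := stalkLin_surjective (cokernel.π φ) x m
    obtain ⟨a, rfl⟩ := ht.2 n
    exact ⟨a, rfl⟩
  rw [K476.HomSh1.stalkMapₗ_eq] at h
  have hker : LinearMap.ker f = Ideal.span {b} := by
    ext a
    rw [LinearMap.mem_ker, hf, Ideal.mem_span_singleton']
    constructor
    · intro h0
      obtain ⟨m, hm⟩ := (hex _).1 h0
      obtain ⟨c, rfl⟩ := hs.2 m
      simp only [map_smul] at hm
      rw [h, smul_smul] at hm
      exact ⟨c, ht.1 hm⟩
    · rintro ⟨c, rfl⟩
      exact (hex _).2 ⟨c • s, by rw [map_smul, h, smul_smul]⟩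
  have e := f.quotKerEquivOfSurjective hsurj
  rw [← e.length_eq]
  exact ((Submodule.quotEquivOfEq _ _ hker)).length_eq

/-- Orders along a monomorphism of rank one modules. -/
theorem sord_map_eq (hX : Pi1.IsNormalScheme X) (hF : R1 F) (hG : R1 G) (φ : F ⟶ G) [Mono φ] {x : X}
    (hx : Order.coheight x = 1) {v : F.presheaf.stalk (η X)} (hv : v ≠ 0) :
    sord G x (stalkMapₗ φ (η X) v) = sord F x v +
      ((Module.length (X.presheaf.stalk x) ((cokernel φ).presheaf.stalk x)).toNat : ℤ) := by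
  obtain ⟨s, hs⟩ := hF.exists_isGen hX hx
  obtain ⟨t, ht⟩ := hG.exists_isGen hX hx
  obtain ⟨b, hb⟩ := ht.2 (stalkMapₗ φ x s)
  simp only at hb
  obtain ⟨a, rfl⟩ := (hF.isGen_spec hs).2 v
  have ha : a ≠ 0 := by
    rintro rfl
    exact hv (zero_smul _ _)
  have hb0 : b ≠ 0 := by
    rintro rfl
    rw [zero_smul, K476.HomSh1.stalkMapₗ_eq] at hb
    have h1 : s = 0 := stalkLin_injective φ x (hb.symm.trans (map_zero _).symm)
    rw [h1] at hs
    have h2 : (1 : X.presheaf.stalk x) = 0 := hs.1 (by simp)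
    exact one_ne_zero h2
  have hb1 : X.presheaf.stalkSpecializes (spec x) b ≠ 0 := fun h2 =>
    hb0 (stalkSpecializes_injective x (h2.trans (map_zero _).symm))
  rw [length_coker φ hs ht hb.symm, ← ord_spec_eq_length hx hb0]
  simp only
  rw [map_smul, stalkMapₗ_spec, ← hb, stalkSpecializes_smul, smul_smul, hF.sord_smul_gen hx hs _ ha,
    hG.sord_smul_gen hx ht _ (mul_ne_zero (M₀ := X.functionField) ha hb1)]
  exact Scheme.ord_mul (X := X) ha hb1

/-- A smaller divisor gives a submodule. -/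
theorem exists_mono (hX : Pi1.IsNormalScheme X) (hF : R1 F) (hG : Coh.IsCoh G) (hGr : IsReflexive G)
    (hG' : R1 G) {v : F.presheaf.stalk (η X)} (hv : v ≠ 0) {w : G.presheaf.stalk (η X)} (hw : w ≠ 0)
    (h : ∀ x : X, Order.coheight x = 1 → sord F x v ≤ sord G x w) :
    ∃ φ : F ⟶ G, Mono φ ∧ stalkMapₗ φ (η X) v = w := by
  let T : F.presheaf.stalk (η X) ≃ₗ[X.presheaf.stalk (η X)] G.presheaf.stalk (η X) :=
    (genEquiv (hF.isGen_of_ne_zero hv)).symm ≪≫ₗ genEquiv (hG'.isGen_of_ne_zero hw)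
  have hT : ∀ a : X.presheaf.stalk (η X), T (a • v) = a • w := by
    intro a
    have h1 : genEquiv (hF.isGen_of_ne_zero hv) a = a • v := rfl
    rw [← h1]
    change genEquiv (hG'.isGen_of_ne_zero hw) ((genEquiv (hF.isGen_of_ne_zero hv)).symm
      (genEquiv (hF.isGen_of_ne_zero hv) a)) = _
    rw [LinearEquiv.symm_apply_apply]
    rfl
  obtain ⟨φ, hφ⟩ := K475.Ref1Iso.exists_hom hX hG hGr T.toLinearMap (fun x hx m => by
    obtain ⟨a, ha⟩ := (hF.isGen_of_ne_zero hv).2 (F.presheaf.stalkSpecializes (spec x) m)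
    simp only at ha
    change T (F.presheaf.stalkSpecializes (spec x) m) ∈ _
    rw [← ha, hT]
    by_cases ha0 : a = 0
    · subst ha0
      exact ⟨0, by rw [map_zero, zero_smul]⟩
    have h1 := (hF.mem_range_iff hX hx (hF.smul_ne_zero hv ha0)).1 ⟨m, ha.symm⟩
    refine (hG'.mem_range_iff hX hx (hG'.smul_ne_zero hw ha0)).2 ?_
    rw [hG'.sord_smul hX hx hw ha0]
    rw [hF.sord_smul hX hx hv ha0] at h1
    exact h1.trans (add_le_add_right (h x hx) _))
  refine ⟨φ, ?_, ?_⟩
  · rw [Groth.Agent.PerfC.FlatExact.mono_iff_stalkLin]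
    intro x
    rw [← K476.HomSh1.stalkMapₗ_eq, injective_iff_map_eq_zero]
    intro m hm
    apply hF.inj x
    have h1 := stalkMapₗ_spec φ (spec x) m
    rw [hm, map_zero, hφ] at h1
    rw [map_zero]
    exact T.injective (h1.trans (map_zero _).symm)
  · rw [hφ]
    have := hT 1
    rwa [one_smul, one_smul] at this

end local_

end K570.RefCls
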