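import Groth.Agent.CycB.DimIneq
import Groth.Agent.CycB.RelDim2
import Groth.Agent.CycB.RelDim3
import Groth.Agent.CycB.StalkLen
import Groth.Agent.VarietyB.DimRing
import Groth.Agent.IntSh.K877.Pts
import Groth.Agent.IntSh.K879.FibDim
import Groth.Agent.SDiv.K475.OrdEta

/-!
# The dimension function `D(x) = trdeg(κ(x)/κ(s)) - dim O_{S,s}` of a morphism `f : X ⟶ S`
-/

set_option autoImplicit false
set_option linter.unusedSectionVars false
universe u
open CategoryTheory CategoryTheory.Limits AlgebraicGeometry TopologicalSpace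

namespace K570.RelDimFn

open Groth.Agent Groth.Agent.CycB Groth.Agent.CycB.RelDim Groth.Agent.CycB.LocQuot
  Groth.Agent.CycB.StalkLen Groth.Agent.IntSh.K877.Pts

variable {X Y S : Scheme.{u}}

/-- The dimension of the local ring as a natural number. -/
noncomputable def dn (s : S) : ℕ := (ringKrullDim (S.presheaf.stalk s)).unbotD 0 |>.toNat

theorem dim_eq_dn [AlgebraicGeometry.IsLocallyNoetherian S] (s : S) :
    ringKrullDim (S.presheaf.stalk s) = dn s := by
  obtain ⟨n, hn⟩ := exists_dim s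
  unfold dn
  rw [hn]
  rfl

/-- The transcendence degree of the residue fields as a natural number. -/
noncomputable def rn (f : X ⟶ S) (x : X) : ℕ := Cardinal.toNat (rtd f x)

theorem rtd_eq_rn (f : X ⟶ S) [LocallyOfFiniteType f] (x : X) : rtd f x = rn f x :=
  (Cardinal.cast_toNat_of_lt_aleph0 (rtd_lt_aleph0 f x)).symm

theorem rn_eq_of {f : X ⟶ S} {x : X} {n : ℕ} (h : rtd f x = n) : rn f x = n := by
  unfold rn
  rw [h, Cardinal.toNat_natCast]

theorem rn_comp (f : X ⟶ Y) (g : Y ⟶ S) [LocallyOfFiniteType f] [LocallyOfFiniteType g] (x : X) :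
    rn (f ≫ g) x = rn g (f x) + rn f x := by
  apply rn_eq_of
  rw [rtd_comp, rtd_eq_rn f, rtd_eq_rn g]
  push_cast
  rfl

/-- `D(x) = trdeg(κ(x)/κ(f x)) - dim O_{S, f x}` -/
noncomputable def D (f : X ⟶ S) (x : X) : ℤ := rn f x - dn (f x)

theorem D_eq (f : X ⟶ S) (x : X) : D f x = rn f x - dn (f x) := rfl

theorem neg_dn_le_D (f : X ⟶ S) (x : X) : - (dn (f x) : ℤ) ≤ D f x := by
  rw [D_eq]
  omega

/-- `dim O_{S,s} + dim O_{closure s, s'} ≤ dim O_{S,s'}`. -/
theorem dim_add_locQuot_le {s' s : S} (h : s ⤳ s') :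
    ringKrullDim (S.presheaf.stalk s) + ringKrullDim (Cyc.LocQuot s' s h) ≤
      ringKrullDim (S.presheaf.stalk s') := by
  have h1 : ringKrullDim (S.presheaf.stalk s) = (primeOf h).asIdeal.height := by
    let _ := StalkLoc.specAlg h
    have := isLocalization_primeOf h
    exact IsLocalization.AtPrime.ringKrullDim_eq_height (primeOf h).asIdeal (S.presheaf.stalk s)
  have h2 : ringKrullDim (Cyc.LocQuot s' s h) =
      ringKrullDim (S.presheaf.stalk s' ⧸ (primeOf h).asIdeal) := by
    rw [primeOf_asIdeal]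
  rw [h1, h2]
  exact VarietyB.DimRing.height_add_dim_le _

/-- The local ring of the closure has positive dimension at proper specializations. -/
theorem one_le_locQuot {x ζ : X} (h : ζ ⤳ x) (hne : ζ ≠ x) {n : ℕ}
    (hn : ringKrullDim (Cyc.LocQuot x ζ h) = n) : 1 ≤ n := by
  by_contra hcon
  have h0 : n = 0 := by omega
  subst h0
  apply hne
  have h2 : ringKrullDim (X.presheaf.stalk x ⧸ (primeOf h).asIdeal) = 0 := by
    rw [primeOf_asIdeal]
    exact_mod_cast hn
  have hmax : (primeOf h).asIdeal = IsLocalRing.maximalIdeal (X.presheaf.stalk x) := by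
    have h3 : Ring.KrullDimLE 0 (X.presheaf.stalk x ⧸ (primeOf h).asIdeal) := by
      rw [Ring.krullDimLE_iff]
      exact h2.le
    have h4 : IsField (X.presheaf.stalk x ⧸ (primeOf h).asIdeal) := Ring.KrullDimLE.isField_of_isDomain
    have h5 : (primeOf h).asIdeal.IsMaximal := Ideal.Quotient.maximal_of_isField _ h4
    exact IsLocalRing.eq_maximalIdeal h5
  have h6 : primeOf h = primeOf (specializes_refl x) := by
    apply PrimeSpectrum.ext
    rw [hmax, primeOf_asIdeal]
    symm
    ext a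
    rw [RingHom.mem_ker]
    have : Cyc.specMap x x (specializes_refl x) a = (X.residue x).hom a := by
      unfold Cyc.specMap
      rw [TopCat.Presheaf.stalkSpecializes_refl, Category.id_comp]
    rw [this]
    exact Ideal.Quotient.eq_zero_iff_mem
  exact (primeOf_inj h (specializes_refl x)).1 h6

/-- `D` decreases along proper specializations. -/
theorem D_lt [AlgebraicGeometry.IsLocallyNoetherian S] (f : X ⟶ S) [LocallyOfFiniteType f] {x ζ : X}
    (h : ζ ⤳ x) (hne : ζ ≠ x) : D f x < D f ζ := by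
  obtain ⟨dX, dY, h1, h2, h3⟩ := DimIneq.dim_ineq f h
  have h4 : (DimIneq.td (f.residueFieldMap x).hom : Cardinal.{u}) = rn f x := rtd_eq_rn f x
  have h5 : (DimIneq.td (f.residueFieldMap ζ).hom : Cardinal.{u}) = rn f ζ := rtd_eq_rn f ζ
  rw [h4, h5] at h3
  have h6 : dX + rn f x ≤ dY + rn f ζ := by exact_mod_cast h3
  have h7 := dim_add_locQuot_le (h.map f.continuous)
  rw [h2, dim_eq_dn, dim_eq_dn] at h7
  have h8 : dn (f ζ) + dY ≤ dn (f x) := by exact_mod_cast h7
  have h9 := one_le_locQuot h hne h1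
  rw [D_eq, D_eq]
  omega

/-- On an integral scheme: `dim O_{Y,y} + trdeg(κ(y)/κ(s)) ≤ dim O_{S,s} + trdeg(K(Y)/κ(ψ η))`. -/
theorem dn_add_rn_le [AlgebraicGeometry.IsLocallyNoetherian S] [AlgebraicGeometry.IsIntegral Y]
    (ψ : Y ⟶ S) [LocallyOfFiniteType ψ] (y : Y) :
    dn y + rn ψ y ≤ dn (ψ y) + rn ψ (genericPoint Y) := by
  have : AlgebraicGeometry.IsLocallyNoetherian Y := LocallyOfFiniteType.isLocallyNoetherian ψ
  obtain ⟨dX, dY, h1, h2, h3⟩ := DimIneq.dim_ineq ψ (genericPoint_specializes y)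
  have h4 : (DimIneq.td (ψ.residueFieldMap y).hom : Cardinal.{u}) = rn ψ y := rtd_eq_rn ψ y
  have h5 : (DimIneq.td (ψ.residueFieldMap (genericPoint Y)).hom : Cardinal.{u}) =
    rn ψ (genericPoint Y) := rtd_eq_rn ψ _
  rw [h4, h5] at h3
  have h6 : dX + rn ψ y ≤ dY + rn ψ (genericPoint Y) := by exact_mod_cast h3
  have h7 := dim_add_locQuot_le ((genericPoint_specializes y).map ψ.continuous)
  rw [h2, dim_eq_dn, dim_eq_dn] at h7
  have h8 : dn (ψ (genericPoint Y)) + dY ≤ dn (ψ y) := by exact_mod_cast h7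
  have h9 : ringKrullDim (Cyc.LocQuot y (genericPoint Y) (genericPoint_specializes y)) =
      ringKrullDim (Y.presheaf.stalk y) := by
    have h10 : RingHom.ker (Cyc.specMap y (genericPoint Y) (genericPoint_specializes y)) = ⊥ := by
      rw [← RingHom.injective_iff_ker_eq_bot]
      exact K475.OrdEta.specMap_injective _
    unfold Cyc.LocQuot
    rw [h10]
    exact ringKrullDim_eq_of_ringEquiv (RingEquiv.quotientBot _)
  rw [h9, dim_eq_dn] at h1
  have h11 : dn y = dX := by exact_mod_cast h1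
  omega

theorem D_le [AlgebraicGeometry.IsLocallyNoetherian S] [AlgebraicGeometry.IsIntegral Y]
    (ψ : Y ⟶ S) [LocallyOfFiniteType ψ] (y : Y) :
    D ψ y ≤ rn ψ (genericPoint Y) - dn y := by
  have := dn_add_rn_le ψ y
  rw [D_eq]
  omega

theorem fiberι_map (f : X ⟶ S) (s : S) (w : f.fiber s) : f (f.fiberι s w) = s := by
  have : f.fiberι s w ∈ Set.range (f.fiberι s) := ⟨w, rfl⟩
  rw [Scheme.Hom.range_fiberι] at this
  exact this

/-- The transcendence degree at the generic point is the dimension of the generic fibre. -/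
theorem rn_generic [AlgebraicGeometry.IsIntegral Y] [AlgebraicGeometry.IsIntegral S]
    (ψ : Y ⟶ S) [LocallyOfFiniteType ψ] [Surjective ψ] {e : ℕ}
    (he : topologicalKrullDim (↥(ψ.fiber (genericPoint S)) : Type u) = e) :
    ψ (genericPoint Y) = genericPoint S ∧ rn ψ (genericPoint Y) = e := by
  have hgen : ψ (genericPoint Y) = genericPoint S := by
    obtain ⟨y, hy⟩ := ψ.surjective (genericPoint S)
    have h1 : ψ (genericPoint Y) ⤳ genericPoint S := by
      rw [← hy]
      exact (genericPoint_specializes y).map ψ.continuous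
    exact (h1.antisymm (genericPoint_specializes _)).eq
  refine ⟨hgen, ?_⟩
  obtain ⟨w, hw⟩ : ∃ w : ψ.fiber (genericPoint S), ψ.fiberι _ w = genericPoint Y := by
    rw [← hgen]
    exact ⟨ψ.asFiber _, ψ.fiberι_asFiber _⟩
  obtain ⟨n, hn, hn'⟩ := exists_dim_closure_fiber ψ (genericPoint S) w
  rw [hw] at hn
  rw [rn_eq_of hn]
  have huniv : closure {w} = (Set.univ : Set (ψ.fiber (genericPoint S))) := by
    rw [Set.eq_univ_iff_forall]
    intro v
    rw [← specializes_iff_mem_closure]
    have : ψ.fiberι _ w ⤳ ψ.fiberι _ v := by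
      rw [hw]
      exact genericPoint_specializes _
    exact (ψ.fiberι _).isEmbedding.isInducing.specializes_iff.mp this
  rw [huniv] at hn'
  have h2 := IsHomeomorph.topologicalKrullDim_eq _
    (Homeomorph.Set.univ ↑(ψ.fiber (genericPoint S))).isHomeomorph
  rw [h2, he] at hn'
  exact_mod_cast hn'.symm

/-- The transcendence degree of points of the support is bounded by the dimension of the support in the
fibre. -/
theorem rn_le_of_support (f : X ⟶ S) [LocallyOfFiniteType f] {F : X.Modules} (hF : Coh.IsCoh F) {x : X}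
    (hx : x ∈ CohB1.support F) {n : ℕ}
    (hn : topologicalKrullDim ↥(CohB1.support F ∩ f.base ⁻¹' {f x}) ≤ (n : WithBot ℕ∞)) :
    rn f x ≤ n := by
  rw [← K879.FibDim.range_inc hF] at hx
  obtain ⟨z, rfl⟩ := hx
  let g := K879.FibDim.inc hF ≫ f
  have hg : g z = f (K879.FibDim.inc hF z) := rfl
  obtain ⟨m, hm, hm'⟩ := exists_dim_closure_fiber g (g z) (g.asFiber z)
  rw [g.fiberι_asFiber] at hm
  have h1 : rn f (K879.FibDim.inc hF z) = m := by
    apply rn_eq_of
    have h2 : rtd g z = rtd f (K879.FibDim.inc hF z) + rtd (K879.FibDim.inc hF) z := rtd_comp _ _ _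
    rw [rtd_eq_zero_of_isPreimmersion (K879.FibDim.inc hF), add_zero] at h2
    rw [← h2, hm]
  rw [h1]
  have h3 : topologicalKrullDim ↥(closure {g.asFiber z}) ≤ topologicalKrullDim ↥(g.fiber (g z)) :=
    topologicalKrullDim_subspace_le _ _
  rw [hm', FlatA.FibreDim.topologicalKrullDim_fiber_eq] at h3
  let φ : ((g : K879.FibDim.Sup hF ⟶ S) : K879.FibDim.Sup hF → S) ⁻¹' {g z} →
      ↥(CohB1.support F ∩ f.base ⁻¹' {f (K879.FibDim.inc hF z)}) :=
    fun w => ⟨K879.FibDim.inc hF w.1, by rw [← K879.FibDim.range_inc hF]; exact ⟨w.1, rfl⟩, w.2⟩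
  have hφ : Topology.IsInducing φ := by
    have h2 : Topology.IsInducing (fun w : ((g : K879.FibDim.Sup hF ⟶ S) : K879.FibDim.Sup hF → S) ⁻¹'
        {g z} => K879.FibDim.inc hF w.1) :=
      (K879.FibDim.inc hF).isEmbedding.isInducing.comp Topology.IsInducing.subtypeVal
    exact Topology.IsInducing.of_comp_iff Topology.IsInducing.subtypeVal |>.1 h2
  have h4 := (h3.trans hφ.topologicalKrullDim_le).trans hn
  exact_mod_cast h4

end K570.RelDimFn
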