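import Groth.Agent.IntSh.K570.DetHat
import Groth.Agent.RefCh.K938.RefCl

/-!
# The rank and `det-hat ((1 - [M']) ζ) = rk ζ • cls M`
-/

set_option autoImplicit false
set_option linter.unusedSectionVars false
universe v u
open CategoryTheory CategoryTheory.Limits AlgebraicGeometry TopologicalSpace Opposite

namespace K570.RkForm

open RefHull Groth.Agent.CycB.StalkExact K878.KSup K878.CapEx Groth.Agent K570.DivCls K570.DetHat

variable {X : Scheme.{u}} [IsIntegral X] [IsNoetherian X]

/-- `rk` is the length at the generic point. -/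
def IsRk (rk : SGA6.Kcoh X →+ ℤ) : Prop :=
  ∀ G' : X.Modules, Coh.IsCoh G' → rk (KDet.clc X G') =
    ((Module.length (X.presheaf.stalk (genericPoint X)) (G'.presheaf.stalk (genericPoint X))).toNat : ℤ)

theorem nonempty_iso_closure_generic :
    Nonempty (Coh.structureModule X ≅ Cyc.closureStructureSheaf (genericPoint X)) := by
  obtain ⟨e⟩ := IntSh.K877.Dev.exists_iso_closure (𝟙 X)
  exact ⟨(Scheme.Modules.pushforwardId X).symm.app _ ≪≫ e⟩

theorem dim_generic : ringKrullDim (X.presheaf.stalk (genericPoint X)) = 0 :=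
  (IntSh.K877.Pts.dim_eq_zero_iff _).2 fun y hy => (hy.antisymm (genericPoint_specializes y)).eq

/-- `[F] ≡ r [O_X]` modulo `coniv 1`, with `r` the length at the generic point. -/
theorem clc_sub_mem {F : X.Modules} (hF : Coh.IsCoh F) :
    KDet.clc X F - ((Module.length (X.presheaf.stalk (genericPoint X))
      (F.presheaf.stalk (genericPoint X))).toNat : ℤ) • KDet.clc X (Coh.structureModule X) ∈
      KDet.coniv X 1 := by
  obtain ⟨m, hm, hcl, hlen⟩ := IntSh.K877.Dev.exists_devissage
    {x : X | (1 : WithBot ℕ∞) ≤ ringKrullDim (X.presheaf.stalk x)} Set.univ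
    (fun x hx z hxz => le_trans hx (IntSh.K877.Pts.dim_mono hxz)) (fun x _ hx z hxz hzx => by
      have h2 := IntSh.K877.Pts.dim_add_one_le hxz hzx.symm
      refine le_trans ?_ h2
      have := add_le_add_left (IntSh.K877.Pts.dim_nonneg x) (1 : WithBot ℕ∞)
      rwa [zero_add] at this) F hF (Set.subset_univ _)
  have hη : genericPoint X ∉ {x : X | (1 : WithBot ℕ∞) ≤ ringKrullDim (X.presheaf.stalk x)} := by
    intro h
    have h' : (1 : WithBot ℕ∞) ≤ ringKrullDim (X.presheaf.stalk (genericPoint X)) := h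
    rw [dim_generic] at h'
    exact absurd h' (by decide)
  have h1 := hlen (genericPoint X) trivial hη
  have h2 : m.sum (fun x n => n • IntSh.K877.Dev.cl (Cyc.closureStructureSheaf x)) =
      m (genericPoint X) • KDet.clc X (Coh.structureModule X) := by
    rw [Finsupp.sum_eq_single (genericPoint X)]
    · obtain ⟨e⟩ := nonempty_iso_closure_generic (X := X)
      rw [show IntSh.K877.Dev.cl (Cyc.closureStructureSheaf (genericPoint X)) =
        KDet.clc X (Coh.structureModule X) from (clc_congr e).symm]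
    · intro x hx hne
      exact absurd (one_le_dim hne) (hm x hx).2
    · intro _
      exact zero_smul _ _
  have h3 : ((Module.length (X.presheaf.stalk (genericPoint X))
      (F.presheaf.stalk (genericPoint X))).toNat : ℤ) • KDet.clc X (Coh.structureModule X) =
      m (genericPoint X) • KDet.clc X (Coh.structureModule X) := by
    rw [h1]
    exact natCast_zsmul _ _
  rw [h3, ← h2]
  exact hcl

theorem mem_univ (ζ : SGA6.Kcoh X) : ζ ∈ ksup X Set.univ := by
  rw [ksup_univ]
  trivial

theorem sub_rk_mem {rk : SGA6.Kcoh X →+ ℤ} (hrk : IsRk rk) (ζ : SGA6.Kcoh X) :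
    ζ - rk ζ • KDet.clc X (Coh.structureModule X) ∈ KDet.coniv X 1 := by
  let f : SGA6.Kcoh X →+ SGA6.Kcoh X :=
    AddMonoidHom.id _ - (zmultiplesHom _ (KDet.clc X (Coh.structureModule X))).comp rk
  have hf : ∀ c, f c = c - rk c • KDet.clc X (Coh.structureModule X) := fun c => rfl
  rw [← hf]
  refine map_mem_of f _ (fun G hG _ => ?_) (mem_univ ζ)
  rw [hf, hrk G hG]
  exact clc_sub_mem hG

/-- `(1 - [L]) · coniv p ⊆ coniv (p+1)`. -/
theorem sub_capHom_mem {L : X.Modules} (hL : PicF.IsInvertible L) (hL' : FlatMod.IsFinLocFree L)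
    (p : ℕ) {ζ : SGA6.Kcoh X} (hζ : ζ ∈ KDet.coniv X p) :
    ζ - capHom X (KRR.cl X L) ζ ∈ KDet.coniv X (p + 1) := by
  let f : SGA6.Kcoh X →+ SGA6.Kcoh X := AddMonoidHom.id _ - capHom X (KRR.cl X L)
  have hf : ∀ c, f c = c - capHom X (KRR.cl X L) c := fun c => rfl
  rw [← hf]
  rw [K879.CapDrop.coniv_eq] at hζ ⊢
  refine map_mem_of f _ (fun G hG hGT => ?_) hζ
  rw [hf, capHom_cl hL' hG]
  refine K879.CapDrop.clc_sub_tensor_mem (fun x hx z hxz => le_trans hx (IntSh.K877.Pts.dim_mono hxz))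
    (fun x hx _ z hxz hzx => ?_) hL hG hGT
  have h2 := IntSh.K877.Pts.dim_add_one_le hxz hzx.symm
  refine le_trans ?_ h2
  have := add_le_add_left (show (p : WithBot ℕ∞) ≤ ringKrullDim (X.presheaf.stalk x) from hx)
    (1 : WithBot ℕ∞)
  refine le_trans (le_of_eq ?_) this
  push_cast
  rfl

variable [RefFun.Law X] {dh : SGA6.Kcoh X →+ Additive (RefFun.Ref1Set X)}

theorem isFinLocFree_of_isInvertible {L : X.Modules} (hL : PicF.IsInvertible L) :
    FlatMod.IsFinLocFree L := fun x => by
  obtain ⟨U, hx, ⟨e⟩⟩ := (Groth.Agent.Ega2.QCohLocal.isFinLocFreeOfRank_one_iff.2 hL) x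
  exact ⟨U, _, hx, ⟨e⟩⟩

/-- `det-hat ((1 - [M']) [O]) = cls M` for `M'` an inverse of `M`. -/
theorem dh_one_sub_unit (hX : Pi1.IsNormalScheme X) (hdh : KDet.IsDetHat X dh) {M M' : X.Modules}
    (hM : IsRef1 M) (hM' : PicF.IsInvertible M') (h : ClSub.IsInverseOf M M') :
    dh (KDet.clc X (Coh.structureModule X) -
      capHom X (KRR.cl X M') (KDet.clc X (Coh.structureModule X))) =
      Additive.ofMul (RefFun.cls M hM) := by
  have hO : Coh.IsCoh (Coh.structureModule X) := Fdesc.StructMod.isCoh_structureModule X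
  have hM1 := K938.RefCl.isRef1_of_isInvertible hM'
  rw [capHom_cl (isFinLocFree_of_isInvertible hM') hO,
    show KDet.clc X ((tb M').obj (Coh.structureModule X)) = KDet.clc X M' from
      clc_congr (Groth.Agent.Ega2.Tens.runit M'), map_sub, hdh.map_structureSheaf, dh_clc hX hdh hM1, zero_sub]
  have h1 : RefFun.cls M hM * RefFun.cls M' hM1 = 1 := by
    rw [← K938.RefCl.cls_tensor hM hM', RefFun.cls_eq_one_iff]
    exact h
  exact congrArg Additive.ofMul (inv_eq_of_mul_eq_one_left h1)

/-- `det-hat ((1 - [M']) ζ) = rk ζ • cls M`. -/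
theorem dh_one_sub (hX : Pi1.IsNormalScheme X) (hdh : KDet.IsDetHat X dh) {M M' : X.Modules}
    (hM : IsRef1 M) (hM' : PicF.IsInvertible M') (h : ClSub.IsInverseOf M M')
    {rk : SGA6.Kcoh X →+ ℤ} (hrk : IsRk rk) (ζ : SGA6.Kcoh X) :
    dh (ζ - capHom X (KRR.cl X M') ζ) = rk ζ • Additive.ofMul (RefFun.cls M hM) := by
  have h1 := sub_rk_mem hrk ζ
  have h2 := sub_capHom_mem hM' (isFinLocFree_of_isInvertible hM') 1 h1
  have h3 := hdh.map_coniv_two _ h2
  have h4 : ζ - rk ζ • KDet.clc X (Coh.structureModule X) - capHom X (KRR.cl X M')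
      (ζ - rk ζ • KDet.clc X (Coh.structureModule X)) =
      (ζ - capHom X (KRR.cl X M') ζ) - rk ζ • (KDet.clc X (Coh.structureModule X) -
        capHom X (KRR.cl X M') (KDet.clc X (Coh.structureModule X))) := by
    rw [map_sub, map_zsmul, smul_sub]
    abel
  rw [h4, map_sub, map_zsmul, dh_one_sub_unit hX hdh hM hM' h, sub_eq_zero] at h3
  exact h3

end K570.RkForm
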