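import Groth.Agent.Fdesc.AssFlat
import Groth.Agent.Sga67.TensorOps
import Groth.Agent.CycB.StalkExact

/-!
# The length of `(F ⊗ f^* G)_x` when the local ring of `f x` is a field
-/

set_option autoImplicit false
set_option linter.style.haveILetI false
universe u
open CategoryTheory AlgebraicGeometry TensorProduct IsLocalRing

namespace K570.TensGen

open Groth.Agent Groth.Agent.Fdesc.PullbackStalk Groth.Agent.Fdesc.AssFlat

variable {X Y : Scheme.{u}}

/-- A finite module over a field is free of rank its length. -/
theorem exists_equiv {K M : Type*} [CommRing K] (hK : IsField K) [AddCommGroup M] [Module K M]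
    [Module.Finite K M] : ∃ r : ℕ, Nonempty (M ≃ₗ[K] (Fin r → K)) ∧ Module.length K M = r := by
  have hn : Nontrivial K := hK.nontrivial
  have hfree : Module.Free K M := by
    letI := hK.toField
    exact Module.Free.of_divisionRing K M
  have hsimple : IsSimpleModule K K := by
    letI := hK.toField
    infer_instance
  refine ⟨Module.finrank K M, ⟨(Module.finBasis K M).equivFun⟩, ?_⟩
  rw [(Module.finBasis K M).equivFun.length_eq, Module.length_pi, Module.length_eq_one]
  simp

theorem length_tensor_pullback (f : X ⟶ Y) (F : X.Modules) (G : Y.Modules) (x : X)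
    (hx : IsField (Y.presheaf.stalk (f x)))
    [hfin : Module.Finite (Y.presheaf.stalk (f x)) (G.presheaf.stalk (f x))] :
    Module.length (X.presheaf.stalk x)
      ((CohB1.tensorMod F ((Scheme.Modules.pullback f).obj G)).presheaf.stalk x) =
      Module.length (Y.presheaf.stalk (f x)) (G.presheaf.stalk (f x)) *
        Module.length (X.presheaf.stalk x) (F.presheaf.stalk x) := by
  letI := stalkAlg f x
  letI := FlatMod.moduleStalkOver f F x
  haveI := isScalarTower f F x
  obtain ⟨r, ⟨e⟩, hr⟩ := exists_equiv (M := G.presheaf.stalk (f x)) hx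
  rw [hr, (CycB.StalkExact.stalkLinEquiv (Sga67.TensorOps.tensorComm F _) x).length_eq,
    (stalkEquiv f G F x).length_eq]
  have e2 : (F.presheaf.stalk x) ⊗[Y.presheaf.stalk (f.base x)] (G.presheaf.stalk (f.base x))
      ≃ₗ[X.presheaf.stalk x] (Fin r → F.presheaf.stalk x) :=
    (AlgebraTensorModule.congr (LinearEquiv.refl (X.presheaf.stalk x) (F.presheaf.stalk x)) e).trans
      (TensorProduct.piScalarRight (Y.presheaf.stalk (f.base x)) (X.presheaf.stalk x)
        (F.presheaf.stalk x) (Fin r))
  rw [e2.length_eq, Module.length_pi]
  simp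

end K570.TensGen
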