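import Groth.Agent.IntSh.K570.RelDimFn
import Groth.Agent.IntSh.K570.TensGen
import Groth.Agent.IntSh.K570.RkForm
import Groth.Agent.IntSh.K570.PushComp
import Groth.Agent.IntSh.K878.PushSup
import Groth.Agent.IntSh.K878.Cap
import Groth.Agent.FormalB.PullCoh

/-!
# Two-level projection formulas, from the filtration theorem for the functions `D`
-/

set_option autoImplicit false
set_option linter.unusedSectionVars false
universe v w u
open CategoryTheory CategoryTheory.Limits AlgebraicGeometry TopologicalSpace Opposite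

namespace K570.TwoLevel

open RefHull Groth.Agent.CycB.StalkExact K878.KSup K878.CapEx Groth.Agent K570.DivCls K570.DetHat
  K570.RkForm K570.RelDimFn

variable {X Y S : Scheme.{u}}

/-- The filtration of `K_•(X)` by the function `D f`. -/
noncomputable def Fil (f : X ⟶ S) (m : ℤ) : AddSubgroup (SGA6.Kcoh X) := ksup X {x | D f x ≤ m}

/-- The filtration theorem for `D f`. -/
def Lowers (f : X ⟶ S) {KX : Type v} [CommRing KX] [LambdaRing.LambdaOps KX]
    (PX : LambdaRing.PosStructure KX) (μ : KX →+ SGA6.Kcoh X →+ SGA6.Kcoh X) : Prop :=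
  ∀ (n : ℕ) (m : ℤ) (x : KX) (ξ : SGA6.Kcoh X), x ∈ LambdaRing.gammaFiltration PX n →
    ξ ∈ Fil f m → μ x ξ ∈ Fil f (m - n)

theorem coniv_eq_dn [AlgebraicGeometry.IsLocallyNoetherian Y] (p : ℕ) :
    KDet.coniv Y p = ksup Y {y | - (dn y : ℤ) ≤ - (p : ℤ)} := by
  rw [K879.CapDrop.coniv_eq]
  congr 1
  ext y
  change (p : WithBot ℕ∞) ≤ ringKrullDim (Y.presheaf.stalk y) ↔ - (dn y : ℤ) ≤ - (p : ℤ)
  rw [dim_eq_dn]
  constructor
  · intro h
    have : p ≤ dn y := by exact_mod_cast h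
    omega
  · intro h
    have : p ≤ dn y := by omega
    exact_mod_cast this

/-- Push-forward sends `Fil f (-p)` to `coniv p`. -/
theorem push_mem_coniv (f : X ⟶ S) [IsProper f] [HasInjectiveResolutions X.Modules]
    [AlgebraicGeometry.IsLocallyNoetherian X] [AlgebraicGeometry.IsLocallyNoetherian S] {N : ℕ}
    {gc : SGA6.Kcoh X →+ SGA6.Kcoh S} (hgc : KRR.IsPushCoh f N gc) {p : ℕ} {m : ℤ} (hm : m ≤ - (p : ℤ))
    {ξ : SGA6.Kcoh X} (hξ : ξ ∈ Fil f m) : gc ξ ∈ KDet.coniv S p := by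
  rw [coniv_eq_dn]
  refine K878.PushSup.push_mem f hgc (fun x hx => ?_) hξ
  have h1 := neg_dn_le_D f x
  have h2 : D f x ≤ m := hx
  change - (dn (f x) : ℤ) ≤ - (p : ℤ)
  omega

/-- `[F] ∈ Fil f d` if the support of `F` has relative dimension at most `d`. -/
theorem clc_mem_Fil (f : X ⟶ S) [LocallyOfFiniteType f] {F : X.Modules} (hF : Coh.IsCoh F) {d : ℕ}
    (hd : ∀ s : S, topologicalKrullDim ↥(CohB1.support F ∩ f.base ⁻¹' {s}) ≤ (d : WithBot ℕ∞)) :
    KDet.clc X F ∈ Fil f d := by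
  refine clc_mem fun _ x hx => ?_
  have h1 := rn_le_of_support f hF hx (hd (f x))
  change D f x ≤ d
  rw [D_eq]
  omega

/-- `coniv p` of an integral scheme is contained in `Fil ψ (e - p)`. -/
theorem coniv_le_Fil [AlgebraicGeometry.IsLocallyNoetherian S] [AlgebraicGeometry.IsIntegral Y]
    (ψ : Y ⟶ S) [LocallyOfFiniteType ψ] {e : ℕ} (he : rn ψ (genericPoint Y) = e) (p : ℕ) :
    KDet.coniv Y p ≤ Fil ψ (e - p) := by
  have : AlgebraicGeometry.IsLocallyNoetherian Y := LocallyOfFiniteType.isLocallyNoetherian ψ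
  rw [coniv_eq_dn]
  refine ksup_mono fun y hy => ?_
  have h1 := D_le ψ y
  have h2 : - (dn y : ℤ) ≤ - (p : ℤ) := hy
  change D ψ y ≤ (e : ℤ) - p
  rw [he] at h1
  omega

theorem length_congr {y y' : Y} (h : y = y') (G : Y.Modules) :
    Module.length (Y.presheaf.stalk y) (G.presheaf.stalk y) =
      Module.length (Y.presheaf.stalk y') (G.presheaf.stalk y') := by
  subst h
  rfl

section main

variable [AlgebraicGeometry.IsNoetherian X] [AlgebraicGeometry.IsNoetherian Y]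
  [AlgebraicGeometry.IsIntegral Y] [AlgebraicGeometry.IsNoetherian S] [AlgebraicGeometry.IsIntegral S]
  (π : X ⟶ Y) [IsProper π] (ψ : Y ⟶ S) [IsProper ψ]

/-- `[F ⊗ π^* G] ≡ r [F]`. -/
theorem tens_sub_mem {F : X.Modules} (hF : Coh.IsCoh F) {d e : ℕ}
    (hd : ∀ y : Y, topologicalKrullDim ↥(CohB1.support F ∩ π.base ⁻¹' {y}) ≤ (d : WithBot ℕ∞))
    (hdS : ∀ s : S, topologicalKrullDim ↥(CohB1.support F ∩ (π ≫ ψ).base ⁻¹' {s}) ≤
      ((d + e : ℕ) : WithBot ℕ∞))
    (he : rn ψ (genericPoint Y) = e) {G : Y.Modules} (hG : Coh.IsCoh G) :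
    KDet.clc X (((DCoh.tensorBi (X := X)).obj F).obj ((Scheme.Modules.pullback π).obj G)) -
      ((Module.length (Y.presheaf.stalk (genericPoint Y))
        (G.presheaf.stalk (genericPoint Y))).toNat : ℤ) • KDet.clc X F ∈
      Fil (π ≫ ψ) (d + e - 1) := by
  set r := (Module.length (Y.presheaf.stalk (genericPoint Y))
        (G.presheaf.stalk (genericPoint Y))).toNat with hr
  have hπG : Coh.IsCoh ((Scheme.Modules.pullback π).obj G) := FormalB.PullCoh.isCoh_pullback π hG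
  set FG := ((DCoh.tensorBi (X := X)).obj F).obj ((Scheme.Modules.pullback π).obj G) with hFGdef
  have hFG : Coh.IsCoh FG := isCoh_tb hF hπG
  have hle : ∀ x ∈ CohB1.support F, rn (π ≫ ψ) x ≤ d + e := fun x hx =>
    rn_le_of_support (π ≫ ψ) hF hx (hdS _)
  have hFT : CohB1.support F ⊆ {x | D (π ≫ ψ) x ≤ d + e} := by
    intro x hx
    have h1 := hle x hx
    change D (π ≫ ψ) x ≤ d + e
    rw [D_eq]
    omega
  have hsFG : CohB1.support FG ⊆ CohB1.support F := K878.Cap.support_tensor_left F _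
  have hS1 : ∀ x ∈ {x | D (π ≫ ψ) x ≤ d + e - 1}, ∀ z, x ⤳ z → z ∈ {x | D (π ≫ ψ) x ≤ d + e - 1} := by
    intro x hx z hxz
    by_cases h : x = z
    · subst h
      exact hx
    · exact (D_lt (π ≫ ψ) hxz h).le.trans hx
  have hS2 : ∀ x ∈ {x | D (π ≫ ψ) x ≤ d + e}, x ∉ {x | D (π ≫ ψ) x ≤ d + e - 1} →
      ∀ z, x ⤳ z → z ≠ x → z ∈ {x | D (π ≫ ψ) x ≤ d + e - 1} := by
    intro x hx _ z hxz hzx
    have h1 := D_lt (π ≫ ψ) hxz hzx.symm
    have h2 : D (π ≫ ψ) x ≤ d + e := hx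
    change D (π ≫ ψ) z ≤ d + e - 1
    omega
  obtain ⟨m₁, h1, h2, h3⟩ := IntSh.K877.Dev.exists_devissage _ _ hS1 hS2 F hF hFT
  obtain ⟨m₂, h1', h2', h3'⟩ := IntSh.K877.Dev.exists_devissage _ _ hS1 hS2 FG hFG (hsFG.trans hFT)
  have hm : m₂ = r • m₁ := by
    ext x
    rw [Finsupp.smul_apply, smul_eq_mul]
    by_cases hxT : x ∈ {x | D (π ≫ ψ) x ≤ d + e} ∧ x ∉ {x | D (π ≫ ψ) x ≤ d + e - 1}
    · have h4 := h3 x hxT.1 hxT.2
      have h5 := h3' x hxT.1 hxT.2
      by_cases hxF : x ∈ CohB1.support F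
      · have h6 := hle x hxF
        have h7 : ¬ D (π ≫ ψ) x ≤ d + e - 1 := hxT.2
        rw [D_eq] at h7
        have h8 := rn_comp π ψ x
        have h9 := rn_le_of_support π hF hxF (hd _)
        have h10 := dn_add_rn_le ψ (π x)
        rw [he] at h10
        have h11 : dn ((π ≫ ψ) x) = dn (ψ (π x)) := rfl
        have h12 : dn (π x) = 0 := by omega
        have h13 : ringKrullDim (Y.presheaf.stalk (π x)) = 0 := by
          rw [dim_eq_dn, h12]
          rfl
        have h14 : π x = genericPoint Y :=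
          ((IntSh.K877.Pts.dim_eq_zero_iff _).1 h13 _ (genericPoint_specializes _)).symm
        have hfld : IsField (Y.presheaf.stalk (π x)) := by
          rw [h14]
          exact Field.toIsField Y.functionField
        have hfinG : Module.Finite (Y.presheaf.stalk (π x)) (G.presheaf.stalk (π x)) :=
          CycB.StalkLoc.finite_stalk G hG (π x)
        have h15 := TensGen.length_tensor_pullback π F G x hfld
        have h16 : (Module.length (Y.presheaf.stalk (π x)) (G.presheaf.stalk (π x))) = (r : ℕ∞) := by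
          obtain ⟨r', -, hr'⟩ := TensGen.exists_equiv (M := G.presheaf.stalk (π x)) hfld
          have h17 := length_congr h14 G
          rw [hr'] at h17
          have h18 : r = r' := by
            rw [hr]
            exact congrArg ENat.toNat h17.symm
          rw [hr', h18]
        rw [h16, h4] at h15
        have h17 := h5.symm.trans h15
        exact_mod_cast h17
      · have h6 : ∀ (M : X.Modules), x ∉ CohB1.support M →
            Module.length (X.presheaf.stalk x) (M.presheaf.stalk x) = 0 := by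
          intro M hM
          rw [CohqB.DevSupport.not_mem_support_iff] at hM
          exact Module.length_eq_zero
        rw [h6 F hxF] at h4
        rw [h6 FG (fun h => hxF (hsFG h))] at h5
        have h7 : m₁ x = 0 := by exact_mod_cast h4.symm
        have h8 : m₂ x = 0 := by exact_mod_cast h5.symm
        rw [h7, h8, mul_zero]
    · have h4 : m₁ x = 0 := by
        by_contra h
        exact hxT (h1 x h)
      have h5 : m₂ x = 0 := by
        by_contra h
        exact hxT (h1' x h)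
      rw [h4, h5, mul_zero]
  have h4 : m₂.sum (fun x n => n • IntSh.K877.Dev.cl (Cyc.closureStructureSheaf x)) =
      (r : ℤ) • m₁.sum (fun x n => n • IntSh.K877.Dev.cl (Cyc.closureStructureSheaf x)) := by
    rw [hm, Finsupp.sum_smul_index (by simp), Finsupp.smul_sum]
    refine Finsupp.sum_congr fun x _ => ?_
    rw [mul_smul, natCast_zsmul]
  have h5 : KDet.clc X FG - (r : ℤ) • KDet.clc X F =
      (IntSh.K877.Dev.cl FG - m₂.sum (fun x n => n • IntSh.K877.Dev.cl (Cyc.closureStructureSheaf x))) -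
      (r : ℤ) • (IntSh.K877.Dev.cl F - m₁.sum (fun x n => n • IntSh.K877.Dev.cl (Cyc.closureStructureSheaf x))) := by
    rw [h4, smul_sub]
    abel
  rw [h5]
  exact sub_mem h2' (AddSubgroup.zsmul_mem _ h2 _)

variable [HasInjectiveResolutions X.Modules] [HasInjectiveResolutions Y.Modules]
  {KX : Type v} [CommRing KX] [LambdaRing.LambdaOps KX] {PX : LambdaRing.PosStructure KX}
  {φX : SGA6.Kvb X →+ KX} {μ : KX →+ SGA6.Kcoh X →+ SGA6.Kcoh X}
  {KY : Type w} [CommRing KY] [LambdaRing.LambdaOps KY] {PY : LambdaRing.PosStructure KY}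
  {φY : SGA6.Kvb Y →+ KY} {μY : KY →+ SGA6.Kcoh Y →+ SGA6.Kcoh Y}
  {N : ℕ} {gc : SGA6.Kcoh X →+ SGA6.Kcoh Y} {NS : ℕ} {gcS : SGA6.Kcoh Y →+ SGA6.Kcoh S}
  {N₂ : ℕ} {gc₂ : SGA6.Kcoh X →+ SGA6.Kcoh S} {pX : KY →+ KX}
  {A : Type*} [AddCommGroup A]

/-- The left-hand sides: reduction to `F`, then to `Y`. -/
theorem left_eq (hgc : KRR.IsPushCoh π N gc) (hgcS : KRR.IsPushCoh ψ NS gcS)
    (hgc₂ : KRR.IsPushCoh (π ≫ ψ) N₂ gc₂) (hμ : KDet.IsCap φX μ) (hμY : KDet.IsCap φY μY)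
    (hφY : Function.Surjective φY) (hpX : KRR.IsPull π φY φX pX)
    (hlow : Lowers (π ≫ ψ) PX μ) {F : X.Modules} (hF : Coh.IsCoh F) {d e : ℕ}
    (hd : ∀ y : Y, topologicalKrullDim ↥(CohB1.support F ∩ π.base ⁻¹' {y}) ≤ (d : WithBot ℕ∞))
    (hdS : ∀ s : S, topologicalKrullDim ↥(CohB1.support F ∩ (π ≫ ψ).base ⁻¹' {s}) ≤
      ((d + e : ℕ) : WithBot ℕ∞))
    (he : rn ψ (genericPoint Y) = e) {G : Y.Modules} (hG : Coh.IsCoh G)
    {dhS : SGA6.Kcoh S →+ A} (hdhS : ∀ c ∈ KDet.coniv S 2, dhS c = 0)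
    {a b : ℕ} (hab : d + e + 1 ≤ a + b) {x : KX} (hx : x ∈ LambdaRing.gammaFiltration PX a) {t : KY}
    (ht : pX t ∈ LambdaRing.gammaFiltration PX b) :
    dhS (gc₂ (μ (x * pX t) (KDet.clc X (((DCoh.tensorBi (X := X)).obj F).obj
      ((Scheme.Modules.pullback π).obj G))))) =
    ((Module.length (Y.presheaf.stalk (genericPoint Y))
        (G.presheaf.stalk (genericPoint Y))).toNat : ℤ) •
      dhS (gcS (μY t (gc (μ x (KDet.clc X F))))) := by
  have h1 := tens_sub_mem π ψ hF hd hdS he hG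
  have h2 := hlow b _ (pX t) _ ht h1
  have h3 := hlow a _ x _ hx h2
  rw [← hμ.mul_smul] at h3
  have h4 := hdhS _ (push_mem_coniv (π ≫ ψ) hgc₂ (p := 2) (by push_cast; omega) h3)
  rw [map_sub, map_sub, map_sub, map_zsmul, map_zsmul, map_zsmul, sub_eq_zero] at h4
  rw [h4, PushComp.push_comp π ψ hgc hgcS hgc₂, ProjF.push_cap_mul π hgc hμ hμY hφY hpX]

/-- On `Y`: classes in `coniv p` are killed by elements of the `γ`-filtration. -/
theorem kill_coniv (hgcS : KRR.IsPushCoh ψ NS gcS) (hlow : Lowers ψ PY μY) {e : ℕ}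
    (he : rn ψ (genericPoint Y) = e) {dhS : SGA6.Kcoh S →+ A} (hdhS : ∀ c ∈ KDet.coniv S 2, dhS c = 0)
    {p b : ℕ} (hpb : e + 2 ≤ p + b) {t : KY} (ht : t ∈ LambdaRing.gammaFiltration PY b)
    {ζ : SGA6.Kcoh Y} (hζ : ζ ∈ KDet.coniv Y p) : dhS (gcS (μY t ζ)) = 0 := by
  have h1 := coniv_le_Fil ψ he p hζ
  have h2 := hlow b _ t _ ht h1
  exact hdhS _ (push_mem_coniv ψ hgcS (p := 2) (by push_cast; omega) h2)

theorem one_sub_cap {L : Y.Modules} (hμY : KDet.IsCap φY μY) (c : SGA6.Kcoh Y) :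
    μY (1 - φY (KRR.cl Y L)) c = c - capHom Y (KRR.cl Y L) c := by
  rw [map_sub, AddMonoidHom.sub_apply, hμY.one_smul, cap_eq hμY]

/-- The first two-level formula. -/
theorem first [RefFun.Law Y] (hYn : Pi1.IsNormalScheme Y)
    (hgc : KRR.IsPushCoh π N gc) (hgcS : KRR.IsPushCoh ψ NS gcS)
    (hgc₂ : KRR.IsPushCoh (π ≫ ψ) N₂ gc₂) (hμ : KDet.IsCap φX μ) (hμY : KDet.IsCap φY μY)
    (hφY : Function.Surjective φY) (hpX : KRR.IsPull π φY φX pX)
    (hpull : ∀ (n : ℕ) (t : KY), t ∈ LambdaRing.gammaFiltration PY n →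
      pX t ∈ LambdaRing.gammaFiltration PX n)
    (hlow : Lowers (π ≫ ψ) PX μ) (hlowπ : Lowers π PX μ) (hlowψ : Lowers ψ PY μY)
    {F : X.Modules} (hF : Coh.IsCoh F) {d e : ℕ}
    (hd : ∀ y : Y, topologicalKrullDim ↥(CohB1.support F ∩ π.base ⁻¹' {y}) ≤ (d : WithBot ℕ∞))
    (hdS : ∀ s : S, topologicalKrullDim ↥(CohB1.support F ∩ (π ≫ ψ).base ⁻¹' {s}) ≤
      ((d + e : ℕ) : WithBot ℕ∞))
    (he : rn ψ (genericPoint Y) = e) {G : Y.Modules} (hG : Coh.IsCoh G)
    {dh : SGA6.Kcoh Y →+ Additive (RefFun.Ref1Set Y)} (hdh : KDet.IsDetHat Y dh)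
    {dhS : SGA6.Kcoh S →+ A} (hdhS : ∀ c ∈ KDet.coniv S 2, dhS c = 0)
    {x : KX} (hx : x ∈ LambdaRing.gammaFiltration PX (d + 1)) {t : KY}
    (ht : t ∈ LambdaRing.gammaFiltration PY e) {I I' : Y.Modules} (hI1 : IsRef1 I)
    (hI' : PicF.IsInvertible I') (hinv : ClSub.IsInverseOf I I')
    (hdI : dh (gc (μ x (KDet.clc X F))) = Additive.ofMul (RefFun.cls I hI1)) :
    dhS (gc₂ (μ (x * pX t) (KDet.clc X (((DCoh.tensorBi (X := X)).obj F).obj
      ((Scheme.Modules.pullback π).obj G))))) =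
      dhS (gcS (μY ((1 - φY (KRR.cl Y I')) * t) (KDet.clc Y G))) := by
  have hO : Coh.IsCoh (Coh.structureModule Y) := Fdesc.StructMod.isCoh_structureModule Y
  rw [left_eq π ψ hgc hgcS hgc₂ hμ hμY hφY hpX hlow hF hd hdS he hG hdhS (a := d + 1) (b := e)
    (by omega) hx (hpull e t ht)]
  have hI'f := isFinLocFree_of_isInvertible hI'
  -- the class on `Y`
  have hO0 : KDet.clc Y (Coh.structureModule Y) ∈ KDet.coniv Y 0 := by
    rw [K879.CapDrop.coniv_eq]
    refine clc_mem fun _ y _ => ?_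
    change ((0 : ℕ) : WithBot ℕ∞) ≤ _
    exact_mod_cast IntSh.K877.Pts.dim_nonneg y
  have h1 : gc (μ x (KDet.clc X F)) ∈ KDet.coniv Y 1 := by
    have h2 := hlowπ (d + 1) _ x _ hx (clc_mem_Fil π hF hd)
    exact push_mem_coniv π hgc (p := 1) (by push_cast; omega) h2
  have h2 : KDet.clc Y (Coh.structureModule Y) -
      capHom Y (KRR.cl Y I') (KDet.clc Y (Coh.structureModule Y)) ∈ KDet.coniv Y 1 :=
    sub_capHom_mem hI' hI'f 0 hO0
  have h3 : gc (μ x (KDet.clc X F)) - (KDet.clc Y (Coh.structureModule Y) -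
      capHom Y (KRR.cl Y I') (KDet.clc Y (Coh.structureModule Y))) ∈ KDet.coniv Y 2 := by
    refine mem_coniv_two hYn hdh (sub_mem h1 h2) ?_
    rw [map_sub, hdI, dh_one_sub_unit hYn hdh hI1 hI' hinv, sub_self]
  have h4 := kill_coniv ψ hgcS hlowψ he hdhS (p := 2) (b := e) (by omega) ht h3
  rw [map_sub, map_sub, map_sub, sub_eq_zero] at h4
  rw [h4]
  -- the right-hand side
  have h5 := clc_sub_mem hG
  have h6 := sub_capHom_mem hI' hI'f 1 h5
  have h7 := kill_coniv ψ hgcS hlowψ he hdhS (p := 2) (b := e) (by omega) ht h6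
  rw [← one_sub_cap hμY, ← hμY.mul_smul, mul_comm t, map_sub, map_sub, map_sub, map_zsmul, map_zsmul,
    map_zsmul, sub_eq_zero] at h7
  rw [h7, mul_comm _ t, hμY.mul_smul, one_sub_cap hμY]

/-- The second two-level formula. -/
theorem second
    (hgc : KRR.IsPushCoh π N gc) (hgcS : KRR.IsPushCoh ψ NS gcS)
    (hgc₂ : KRR.IsPushCoh (π ≫ ψ) N₂ gc₂) (hμ : KDet.IsCap φX μ) (hμY : KDet.IsCap φY μY)
    (hφY : Function.Surjective φY) (hpX : KRR.IsPull π φY φX pX)
    (hpull : ∀ (n : ℕ) (t : KY), t ∈ LambdaRing.gammaFiltration PY n →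
      pX t ∈ LambdaRing.gammaFiltration PX n)
    (hlow : Lowers (π ≫ ψ) PX μ) (hlowψ : Lowers ψ PY μY)
    {F : X.Modules} (hF : Coh.IsCoh F) {d e : ℕ}
    (hd : ∀ y : Y, topologicalKrullDim ↥(CohB1.support F ∩ π.base ⁻¹' {y}) ≤ (d : WithBot ℕ∞))
    (hdS : ∀ s : S, topologicalKrullDim ↥(CohB1.support F ∩ (π ≫ ψ).base ⁻¹' {s}) ≤
      ((d + e : ℕ) : WithBot ℕ∞))
    (he : rn ψ (genericPoint Y) = e) {G : Y.Modules} (hG : Coh.IsCoh G)
    {dhS : SGA6.Kcoh S →+ A} (hdhS : ∀ c ∈ KDet.coniv S 2, dhS c = 0)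
    {x : KX} (hx : x ∈ LambdaRing.gammaFiltration PX d) {t : KY}
    (ht : t ∈ LambdaRing.gammaFiltration PY (e + 1))
    {rk : SGA6.Kcoh Y →+ ℤ} (hrk : IsRk rk) :
    dhS (gc₂ (μ (x * pX t) (KDet.clc X (((DCoh.tensorBi (X := X)).obj F).obj
      ((Scheme.Modules.pullback π).obj G))))) =
      (rk (gc (μ x (KDet.clc X F)))) • dhS (gcS (μY t (KDet.clc Y G))) := by
  rw [left_eq π ψ hgc hgcS hgc₂ hμ hμY hφY hpX hlow hF hd hdS he hG hdhS (a := d) (b := e + 1)
    (by omega) hx (hpull _ t ht)]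
  have h1 := kill_coniv ψ hgcS hlowψ he hdhS (p := 1) (b := e + 1) (by omega) ht
    (sub_rk_mem hrk (gc (μ x (KDet.clc X F))))
  have h2 := kill_coniv ψ hgcS hlowψ he hdhS (p := 1) (b := e + 1) (by omega) ht (clc_sub_mem hG)
  rw [map_sub, map_sub, map_sub, map_zsmul, map_zsmul, map_zsmul, sub_eq_zero] at h1 h2
  rw [h1, h2, smul_comm]

end main

end K570.TwoLevel
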